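import Cfsg.Agent.CoOneType.CoEval
import Cfsg.Agent.CoOneType.CoFast
import Cfsg.Agent.CoOneType.CoQZ
import Cfsg.Agent.Prune
set_option linter.all false
prune_inst 0x7f00000000000000000000000000000000000000000000000000000000000000000000000000000000000000000000000000000000000000000000000000000000000000000000000000000000000000003fffffffffffffffffffffffffffbeffbdffffffff
private noncomputable def lq26680710b1 {T : Sort _} (f :
    type_of% (@_root_.List.cons.{0}) →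
    type_of% (@_root_.List.nil.{0}) → T) : T :=
  f (@_root_.List.cons.{0}) (@_root_.List.nil.{0})

/-- decoders of the packed data (elaboration time only) -/
private noncomputable def pk61d (b S i : Nat) : Nat := Nat.mod (Nat.shiftRight S (Nat.mul b i)) (Nat.shiftLeft (nat_lit 1) b)
private noncomputable def pk61c {α : Type} (t : Nat) (a : α) (f : Nat → α) : α := Nat.rec a (fun k _ => f k) t
private noncomputable def pk61f {α : Type} (t : Nat) (f : Nat → α) : α := Nat.rec (f Nat.zero) (fun k _ => f (Nat.succ k)) t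
private noncomputable def pk61z (t : Nat) : Int := pk61f t fun t =>
  pk61c (Nat.mod t (nat_lit 2)) (Int.ofNat (Nat.div t (nat_lit 2))) fun _ => Int.negSucc (Nat.div t (nat_lit 2))
private noncomputable def pk61l {α : Type} (f : Nat → α) (s e : Nat) (tl : List α) : List α :=
  pk61f e fun e => Nat.rec tl (fun k ih => List.cons (pk61f (Nat.sub e (Nat.succ k)) f) ih) (Nat.sub e s)

/-!
# Elements of order five of `Co₀`: matrices (helper6)

24 × 24 integer matrices divided by 8.  Generated by a script; checked by the kernel.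
-/

set_option autoImplicit false
set_option Elab.async false
set_option maxRecDepth 100000

namespace Cfsg.Agent.CpAutCoOneFive.Mat

open Cfsg Cfsg.Agent.SporadicStructure.Co0Matrix Cfsg.Agent.CoOneType.CoEval

/-- rows: a permutation of cycle type `1^4 5^4` -/
def rA : List (List ℤ) := (beta% delta% lq26680710b1 fun a b =>
 (a (a 0<|a 0<|a 0<|a 0<|a 0<|a 0<|a 0<|a 0<|a 0<|a 0<|a 0<|a 0<|a 0<|a 0<|a 0<|a 0<|a 0<|a 0<|a 0<|a 8<|a 0<|a 0<|a 0<|a 0<|b)<|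
 a (a 0<|a 0<|a 0<|a 0<|a 0<|a 0<|a 0<|a 0<|a 0<|a 0<|a 0<|a 0<|a 0<|a 8<|a 0<|a 0<|a 0<|a 0<|a 0<|a 0<|a 0<|a 0<|a 0<|a 0<|b)<|
 a (a 0<|a 0<|a 0<|a 0<|a 8<|a 0<|a 0<|a 0<|a 0<|a 0<|a 0<|a 0<|a 0<|a 0<|a 0<|a 0<|a 0<|a 0<|a 0<|a 0<|a 0<|a 0<|a 0<|a 0<|b)<|
 a (a 0<|a 0<|a 8<|a 0<|a 0<|a 0<|a 0<|a 0<|a 0<|a 0<|a 0<|a 0<|a 0<|a 0<|a 0<|a 0<|a 0<|a 0<|a 0<|a 0<|a 0<|a 0<|a 0<|a 0<|b)<|
 a (a 0<|a 0<|a 0<|a 0<|a 0<|a 0<|a 0<|a 0<|a 0<|a 0<|a 0<|a 0<|a 0<|a 0<|a 0<|a 0<|a 0<|a 0<|a 0<|a 0<|a 8<|a 0<|a 0<|a 0<|b)<|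
 a (a 0<|a 0<|a 0<|a 0<|a 0<|a 0<|a 0<|a 0<|a 0<|a 0<|a 0<|a 0<|a 0<|a 0<|a 8<|a 0<|a 0<|a 0<|a 0<|a 0<|a 0<|a 0<|a 0<|a 0<|b)<|
 a (a 0<|a 0<|a 0<|a 0<|a 0<|a 0<|a 8<|a 0<|a 0<|a 0<|a 0<|a 0<|a 0<|a 0<|a 0<|a 0<|a 0<|a 0<|a 0<|a 0<|a 0<|a 0<|a 0<|a 0<|b)<|
 a (a 0<|a 0<|a 0<|a 0<|a 0<|a 0<|a 0<|a 8<|a 0<|a 0<|a 0<|a 0<|a 0<|a 0<|a 0<|a 0<|a 0<|a 0<|a 0<|a 0<|a 0<|a 0<|a 0<|a 0<|b)<|
 a (a 0<|a 0<|a 0<|a 0<|a 0<|a 0<|a 0<|a 0<|a 0<|a 0<|a 8<|a 0<|a 0<|a 0<|a 0<|a 0<|a 0<|a 0<|a 0<|a 0<|a 0<|a 0<|a 0<|a 0<|b)<|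
 a (a 8<|a 0<|a 0<|a 0<|a 0<|a 0<|a 0<|a 0<|a 0<|a 0<|a 0<|a 0<|a 0<|a 0<|a 0<|a 0<|a 0<|a 0<|a 0<|a 0<|a 0<|a 0<|a 0<|a 0<|b)<|
 a (a 0<|a 0<|a 0<|a 0<|a 0<|a 0<|a 0<|a 0<|a 0<|a 0<|a 0<|a 0<|a 0<|a 0<|a 0<|a 8<|a 0<|a 0<|a 0<|a 0<|a 0<|a 0<|a 0<|a 0<|b)<|
 a (a 0<|a 0<|a 0<|a 8<|a 0<|a 0<|a 0<|a 0<|a 0<|a 0<|a 0<|a 0<|a 0<|a 0<|a 0<|a 0<|a 0<|a 0<|a 0<|a 0<|a 0<|a 0<|a 0<|a 0<|b)<|
 a (a 0<|a 8<|a 0<|a 0<|a 0<|a 0<|a 0<|a 0<|a 0<|a 0<|a 0<|a 0<|a 0<|a 0<|a 0<|a 0<|a 0<|a 0<|a 0<|a 0<|a 0<|a 0<|a 0<|a 0<|b)<|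
 a (a 0<|a 0<|a 0<|a 0<|a 0<|a 0<|a 0<|a 0<|a 0<|a 0<|a 0<|a 0<|a 0<|a 0<|a 0<|a 0<|a 0<|a 0<|a 0<|a 0<|a 0<|a 0<|a 0<|a 8<|b)<|
 a (a 0<|a 0<|a 0<|a 0<|a 0<|a 0<|a 0<|a 0<|a 8<|a 0<|a 0<|a 0<|a 0<|a 0<|a 0<|a 0<|a 0<|a 0<|a 0<|a 0<|a 0<|a 0<|a 0<|a 0<|b)<|
 a (a 0<|a 0<|a 0<|a 0<|a 0<|a 8<|a 0<|a 0<|a 0<|a 0<|a 0<|a 0<|a 0<|a 0<|a 0<|a 0<|a 0<|a 0<|a 0<|a 0<|a 0<|a 0<|a 0<|a 0<|b)<|
 a (a 0<|a 0<|a 0<|a 0<|a 0<|a 0<|a 0<|a 0<|a 0<|a 0<|a 0<|a 0<|a 8<|a 0<|a 0<|a 0<|a 0<|a 0<|a 0<|a 0<|a 0<|a 0<|a 0<|a 0<|b)<|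
 a (a 0<|a 0<|a 0<|a 0<|a 0<|a 0<|a 0<|a 0<|a 0<|a 8<|a 0<|a 0<|a 0<|a 0<|a 0<|a 0<|a 0<|a 0<|a 0<|a 0<|a 0<|a 0<|a 0<|a 0<|b)<|
 a (a 0<|a 0<|a 0<|a 0<|a 0<|a 0<|a 0<|a 0<|a 0<|a 0<|a 0<|a 0<|a 0<|a 0<|a 0<|a 0<|a 0<|a 0<|a 8<|a 0<|a 0<|a 0<|a 0<|a 0<|b)<|
 a (a 0<|a 0<|a 0<|a 0<|a 0<|a 0<|a 0<|a 0<|a 0<|a 0<|a 0<|a 0<|a 0<|a 0<|a 0<|a 0<|a 0<|a 0<|a 0<|a 0<|a 0<|a 0<|a 8<|a 0<|b)<|
 a (a 0<|a 0<|a 0<|a 0<|a 0<|a 0<|a 0<|a 0<|a 0<|a 0<|a 0<|a 8<|a 0<|a 0<|a 0<|a 0<|a 0<|a 0<|a 0<|a 0<|a 0<|a 0<|a 0<|a 0<|b)<|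
 a (a 0<|a 0<|a 0<|a 0<|a 0<|a 0<|a 0<|a 0<|a 0<|a 0<|a 0<|a 0<|a 0<|a 0<|a 0<|a 0<|a 0<|a 0<|a 0<|a 0<|a 0<|a 8<|a 0<|a 0<|b)<|
 a (a 0<|a 0<|a 0<|a 0<|a 0<|a 0<|a 0<|a 0<|a 0<|a 0<|a 0<|a 0<|a 0<|a 0<|a 0<|a 0<|a 0<|a 8<|a 0<|a 0<|a 0<|a 0<|a 0<|a 0<|b)<|
 a (a 0<|a 0<|a 0<|a 0<|a 0<|a 0<|a 0<|a 0<|a 0<|a 0<|a 0<|a 0<|a 0<|a 0<|a 0<|a 0<|a 8<|a 0<|a 0<|a 0<|a 0<|a 0<|a 0<|a 0<|b)<|b))

/-- columns -/
def cA : List (List ℤ) :=
  (by
  refine (?fq9001 : ((pk61l (fun i1 => (pk61l (fun i2 => (pk61z (pk61d (nat_lit 5) 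
    (nat_lit 0x200) (pk61d (nat_lit 1) 
    (nat_lit 0x2000080000200000000010000001040000400000800000000400000020000002010000100000000100020000004000000080000040008000000004000800000008001000000200) i2)))) (Nat.mul (nat_lit 24) i1) (Nat.mul (nat_lit 24) (Nat.succ i1)) List.nil)) (nat_lit 0) (nat_lit 24) List.nil) : List (List ℤ))
    = ?xq9001 → (List (List ℤ))) ?hq9001; (case hq9001 => (set_option maxRecDepth 1000000 in conv => lhs; reduce)); intro _; exact ?xq9001 : List (List ℤ))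

/-- rows: b -/
def rB : List (List ℤ) :=
  (by
  refine (?fq9002 : ((pk61l (fun i1 => (pk61l (fun i2 => (pk61z (pk61d (nat_lit 4) 
    (nat_lit 0xc430) (pk61d (nat_lit 2) 
    (nat_lit 0x11014c28019588981281a86984a8218168a64498224268001103442801003101442801aa84941182980013014428019a84a82241949944642282a8aa8864124168a648682181986684681282a46a48942281a4698858224298002202881c02a948a81282540022028834025688a4228258001101c428015a48a81142a8a588a42142a49a8858218264001101442803) i2)))) (Nat.mul (nat_lit 24) i1) (Nat.mul (nat_lit 24) (Nat.succ i1)) List.nil)) (nat_lit 0) (nat_lit 24) List.nil) : List (List ℤ))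
    = ?xq9002 → (List (List ℤ))) ?hq9002; (case hq9002 => (set_option maxRecDepth 1000000 in conv => lhs; reduce)); intro _; exact ?xq9002 : List (List ℤ))

/-- columns -/
def cB : List (List ℤ) :=
  (by
  refine (?fq9003 : ((pk61l (fun i1 => (pk61l (fun i2 => (pk61z (pk61d (nat_lit 4) 
    (nat_lit 0xc430) (pk61d (nat_lit 2) 
    (nat_lit 0x2608aa5484681a085aa884641908a968849816089aa4489829089998486840710002210125045a6888a84053000221012a08956488a41904aa9488a42a049698849840d1000221014051000223011a04a6684868c051000221012604a9a88854290866a4885880a20001320280a2000312021608659888a82508a6a844a42a0469a444a82a086a584894405100022103) i2)))) (Nat.mul (nat_lit 24) i1) (Nat.mul (nat_lit 24) (Nat.succ i1)) List.nil)) (nat_lit 0) (nat_lit 24) List.nil) : List (List ℤ))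
    = ?xq9003 → (List (List ℤ))) ?hq9003; (case hq9003 => (set_option maxRecDepth 1000000 in conv => lhs; reduce)); intro _; exact ?xq9003 : List (List ℤ))

/-- rows: d, without fixed vectors -/
def rD : List (List ℤ) :=
  (by
  refine (?fq9004 : ((pk61l (fun i1 => (pk61l (fun i2 => (pk61z (pk61d (nat_lit 4) 
    (nat_lit 0x300303030043400040043347034040303380043303400004043040403300034383300004400304030044300840043430034030304300034403300084400403040044400048044440844040304400033303300003400473030043300040034330044040303300044404370003034040404300734304400003300403030034307040033440470303040033400040033430400404040033380040043340034040403400033404300704044030483300033403400003044030303400034304407004407303040044300030033340044047404400044403400004044730404300043304300004300304040843300040034440300404048044400040033330400304030034400040834340300303740034300040044330034030403408044303300003)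 i2))) (Nat.mul (nat_lit 24) i1) (Nat.mul (nat_lit 24) (Nat.succ i1)) List.nil)) (nat_lit 0) (nat_lit 24) List.nil) : List (List ℤ))
    = ?xq9004 → (List (List ℤ))) ?hq9004; (case hq9004 => (set_option maxRecDepth 1000000 in conv => lhs; reduce)); intro _; exact ?xq9004 : List (List ℤ))

/-- columns -/
def cD : List (List ℤ) :=
  (by
  refine (?fq9005 : ((pk61l (fun i1 => (pk61l (fun i2 => (pk61z (pk61d (nat_lit 4) 
    (nat_lit 0x300404840034400040033430034030404307034404400003043040404400044474400004300304040043400030734330044030474400043304300003300403030033400037044430034030303400044304400074300304030034408040044340033040403400033304408003033030403300043404380004480404040033300040044330300404030043300040034448400304030734300030034430043030304300833304400004034040304470033404300004033840304300044304300003408404040044400030044440033038304400043403400003043030303400034404300803400404037033400030033340300304040033300730043440300404030044370030043330400384030043400040043430744040303300043404400003)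 i2))) (Nat.mul (nat_lit 24) i1) (Nat.mul (nat_lit 24) (Nat.succ i1)) List.nil)) (nat_lit 0) (nat_lit 24) List.nil) : List (List ℤ))
    = ?xq9005 → (List (List ℤ))) ?hq9005; (case hq9005 => (set_option maxRecDepth 1000000 in conv => lhs; reduce)); intro _; exact ?xq9005 : List (List ℤ))

/-- rows: h with `h d h⁻¹ = c d²` -/
def rH : List (List ℤ) :=
  (by
  refine (?fq9006 : ((pk61l (fun i1 => (pk61l (fun i2 => (pk61z (pk61d (nat_lit 4) 
    (nat_lit 0x116115661211622211112221661115116261122211112221111115111211125266112251222221252152261622221162611112161211122216115226522251222122561152221112111912111216122211112521166112111211155211115221252221222122511625521112111612111216122211112a2111616211156112221611222122222152215221115252611222222122215251612225111522252122212a211122221612225221225122211652221115222226222622261122521115161162611211122211112256161112161511122261162221611112611511125511112221111112616211152216162221111165111211122511165221111112116511622211115251616112111211122211662251111162166211125211612221)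 i2))) (Nat.mul (nat_lit 24) i1) (Nat.mul (nat_lit 24) (Nat.succ i1)) List.nil)) (nat_lit 0) (nat_lit 24) List.nil) : List (List ℤ))
    = ?xq9006 → (List (List ℤ))) ?hq9006; (case hq9006 => (set_option maxRecDepth 1000000 in conv => lhs; reduce)); intro _; exact ?xq9006 : List (List ℤ))

/-- columns -/
def cH : List (List ℤ) :=
  (by
  refine (?fq9007 : ((pk61l (fun i1 => (pk61l (fun i2 => (pk61z (pk61d (nat_lit 4) 
    (nat_lit 0x1612651121122222116111611612121651122222661111116112121621622252111111611112129126122522111111111112151121622222611161165551212212211116222252226112121121152222616611116115621121122222161111161612121121122252111616162221212212511116255225221615121121655222111111111112126126122a2211111111611215115112522211111611222626251221111622252222225121251221611122522225222621226221116122525222116215112115225216111111116262115162222211161111111212115115222511111166111212112112522216166161222151251226111122225522222121521a21161122222222225621221221111152222552111262112112525561111111)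 i2))) (Nat.mul (nat_lit 24) i1) (Nat.mul (nat_lit 24) (Nat.succ i1)) List.nil)) (nat_lit 0) (nat_lit 24) List.nil) : List (List ℤ))
    = ?xq9007 → (List (List ℤ))) ?hq9007; (case hq9007 => (set_option maxRecDepth 1000000 in conv => lhs; reduce)); intro _; exact ?xq9007 : List (List ℤ))

/-- rows: s, acting on `⟨a, c, d⟩`, centralizing d -/
def rS : List (List ℤ) :=
  (by
  refine (?fq9008 : ((pk61l (fun i1 => (pk61l (fun i2 => (pk61z (pk61d (nat_lit 4) 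
    (nat_lit 0x83033000033000034344330330400443300433300008004330300344400444300700004003034080034000034443440330400434470343400000004430370433300444400000004330300343300343400000703004034000033070043343340430300333400333370000004003043000043000044443348003034000844000043444330430307444400433400000003003044000033800033433330430400334300443300080003004043000034008033444340004744000033000044444430430400443407344300000003340300433400443300000083440300444300343307000004448400343400443400000004003043007034000043343430004033000034000744433330004044800044000034343330803044000034000044334340) i2))) (Nat.mul (nat_lit 24) i1) (Nat.mul (nat_lit 24) (Nat.succ i1)) List.nil)) (nat_lit 0) (nat_lit 24) List.nil) : List (List ℤ))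
    = ?xq9008 → (List (List ℤ))) ?hq9008; (case hq9008 => (set_option maxRecDepth 1000000 in conv => lhs; reduce)); intro _; exact ?xq9008 : List (List ℤ))

/-- columns -/
def cS : List (List ℤ) :=
  (by
  refine (?fq9009 : ((pk61l (fun i1 => (pk61l (fun i2 => (pk61z (pk61d (nat_lit 4) 
    (nat_lit 0x33034304004040043440008833033303003030034440000300300040330304400083443043043303003040743340000300307030430404400004344300400040347403400003344043044303004030044430080044833403004030043440000034043303004040033437000034043304084030044340000300370030440303300003343300400030340304370004444044034303004840034340000034044473003040044440000034034303003038043330000033044403004030033340700300300047440303400004434400400030430303400703444307400030440404400003433400400040440384400004343480300030340304400003334300400730330303400004333300400040430304308003334044044304803030033440000) i2))) (Nat.mul (nat_lit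 24) i1) (Nat.mul (nat_lit 24) (Nat.succ i1)) List.nil)) (nat_lit 0) (nat_lit 24) List.nil) : List (List ℤ))
    = ?xq9009 → (List (List ℤ))) ?hq9009; (case hq9009 => (set_option maxRecDepth 1000000 in conv => lhs; reduce)); intro _; exact ?xq9009 : List (List ℤ))

/-- rows: r, acting on `⟨a, c, d⟩`, centralizing a -/
def rR : List (List ℤ) :=
  (by
  refine (?fq9010 : ((pk61l (fun i1 => (pk61l (fun i2 => (pk61z (pk61d (nat_lit 4) 
    (nat_lit 0x403003400330303444380000404004400440303343307007404003300430304344400333040340044003030000734000404003300347403443400333037330033003040000033000474004300430403434300000403003480430403333400333040440034004840000043433040438043003040000044000303004308430303443400800303003300440403344300443040330034003030070043443030440834003040000034070304003400440303434400443040340043004040800033000304003300330383333300434030340044003048000043343030330044084040000044433030340033004030007044343730440043003030000043433030430044704030000033000403084300340303334400000304704400330403344400)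 i2))) (Nat.mul (nat_lit 24) i1) (Nat.mul (nat_lit 24) (Nat.succ i1)) List.nil)) (nat_lit 0) (nat_lit 24) List.nil) : List (List ℤ))
    = ?xq9010 → (List (List ℤ))) ?hq9010; (case hq9010 => (set_option maxRecDepth 1000000 in conv => lhs; reduce)); intro _; exact ?xq9010 : List (List ℤ))

/-- columns -/
def cR : List (List ℤ) :=
  (by
  refine (?fq9011 : ((pk61l (fun i1 => (pk61l (fun i2 => (pk61z (pk61d (nat_lit 4) 
    (nat_lit 0x303003408440404343400000303003300447403434300007303003300330304333300444040440033003030007043000403704400430403333300344047430033004040000034000303004400340303334407000403004300340404344380343030430843003030000044443030340033084030000034000403083400330404434400000403004380440304433400344030440044004030000733343040330034004030800043000373004300330403443400333040448034003030000034000304004400340484433300334030330033003038000033433040430043004830000033444040330044703030000034434030430034004030070044334740340043004030000044800303004400430304444300070403003400340303443300)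 i2))) (Nat.mul (nat_lit 24) i1) (Nat.mul (nat_lit 24) (Nat.succ i1)) List.nil)) (nat_lit 0) (nat_lit 24) List.nil) : List (List ℤ))
    = ?xq9011 → (List (List ℤ))) ?hq9011; (case hq9011 => (set_option maxRecDepth 1000000 in conv => lhs; reduce)); intro _; exact ?xq9011 : List (List ℤ))

/-- rows: t, acting on `⟨a, c, d⟩`, centralizing a -/
def rT : List (List ℤ) :=
  (by
  refine (?fq9012 : ((pk61l (fun i1 => (pk61l (fun i2 => (pk61z (pk61d (nat_lit 4) 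
    (nat_lit 0x22222222552522222225225222225252252222222252522211611111111111119611111122252525252222222222222525222222522252222252222511161111111161111116661125222222252222552222252222252222225222252252225261116111111111111111166666161161111611111111111122222225222525222252252252222222255255222222222222225522222552252222222211111111116611611111611622222252222225252225222511111166111161611111116111911111111111116611111122522222222222225a222222161161161161111111161111522225222222225222552222252225222222252222225252222225525252222222222522522222255222222522225222222552225222255222222222) i2))) (Nat.mul (nat_lit 24) i1) (Nat.mul (nat_lit 24) (Nat.succ i1)) List.nil)) (nat_lit 0) (nat_lit 24) List.nil) : List (List ℤ))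
    = ?xq9012 → (List (List ℤ))) ?hq9012; (case hq9012 => (set_option maxRecDepth 1000000 in conv => lhs; reduce)); intro _; exact ?xq9012 : List (List ℤ))

/-- columns -/
def cT : List (List ℤ) :=
  (by
  refine (?fq9013 : ((pk61l (fun i1 => (pk61l (fun i2 => (pk61z (pk61d (nat_lit 4) 
    (nat_lit 0x22122122662521211215225222125152162221211262522222622122112221219512222222152625162221211212222525122122612251211262222522152122112251211215552225122122162221561212252222152122115221261262225252125122112221211212255555152152112521211212222222122125112526211262252252122122165256211212222222125622112551261212222222122122115521511212522522122152112226261215222522122155112251511212225222922122112221216512222222622122112221216a122222251251251152212112152222521226221122215112652222251226221122262112125252221226526152212112122522521221256122212612125222221551226122265112122222) i2))) (Nat.mul (nat_lit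 24) i1) (Nat.mul (nat_lit 24) (Nat.succ i1)) List.nil)) (nat_lit 0) (nat_lit 24) List.nil) : List (List ℤ))
    = ?xq9013 → (List (List ℤ))) ?hq9013; (case hq9013 => (set_option maxRecDepth 1000000 in conv => lhs; reduce)); intro _; exact ?xq9013 : List (List ℤ))

/-- rows: a conjugate of d -/
def rY : List (List ℤ) := (beta% delta% lq26680710b1 fun a b =>
 (a (a (-1)<|a (-1)<|a 1<|a (-1)<|a 1<|a 1<|a (-1)<|a 1<|a 1<|a (-3)<|a (-3)<|a 1<|a 3<|a (-3)<|a (-1)<|a 1<|a (-3)<|a 1<|a (-1)<|a (-1)<|a 1<|a 1<|a 1<|a 1<|b)<|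
 a (a (-3)<|a (-3)<|a (-1)<|a 1<|a (-1)<|a (-1)<|a 1<|a (-1)<|a (-1)<|a (-1)<|a (-1)<|a (-1)<|a 1<|a (-1)<|a 1<|a (-1)<|a 3<|a (-1)<|a (-3)<|a 1<|a (-1)<|a (-1)<|a 3<|a (-1)<|b)<|
 a (a (-3)<|a 1<|a (-1)<|a 1<|a 3<|a (-1)<|a (-3)<|a (-1)<|a (-1)<|a 3<|a (-1)<|a (-1)<|a 1<|a (-1)<|a (-3)<|a (-1)<|a (-1)<|a (-1)<|a 1<|a 1<|a (-1)<|a (-1)<|a (-1)<|a (-1)<|b)<|
 a (a 1<|a 1<|a (-1)<|a (-3)<|a 3<|a (-1)<|a 1<|a (-1)<|a 3<|a (-1)<|a (-1)<|a (-1)<|a 1<|a (-1)<|a 1<|a (-1)<|a 3<|a 3<|a 1<|a 1<|a (-1)<|a (-1)<|a (-1)<|a (-1)<|b)<|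
 a (a 1<|a 1<|a (-1)<|a 1<|a (-1)<|a (-1)<|a 1<|a (-1)<|a (-1)<|a (-1)<|a (-1)<|a (-5)<|a 1<|a (-1)<|a 1<|a (-1)<|a (-1)<|a (-1)<|a 1<|a (-3)<|a (-1)<|a 3<|a (-1)<|a (-1)<|b)<|
 a (a (-1)<|a (-1)<|a 1<|a (-1)<|a 1<|a (-3)<|a 3<|a 1<|a 1<|a 1<|a 1<|a 1<|a (-1)<|a 1<|a (-1)<|a 1<|a (-3)<|a 1<|a (-1)<|a (-1)<|a (-3)<|a 1<|a 1<|a (-3)<|b)<|
 a (a (-1)<|a (-1)<|a 1<|a (-1)<|a 1<|a 1<|a (-1)<|a 1<|a 1<|a 1<|a 1<|a (-3)<|a (-1)<|a 1<|a (-1)<|a 1<|a 1<|a 1<|a (-1)<|a (-5)<|a 1<|a (-3)<|a 1<|a 1<|b)<|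
 a (a (-1)<|a 3<|a 1<|a (-1)<|a (-3)<|a (-3)<|a (-1)<|a (-3)<|a 1<|a 1<|a (-3)<|a 1<|a (-1)<|a 1<|a (-1)<|a 1<|a 1<|a 1<|a (-1)<|a (-1)<|a 1<|a 1<|a 1<|a 1<|b)<|
 a (a 1<|a 1<|a 3<|a 1<|a (-1)<|a (-1)<|a (-3)<|a (-1)<|a (-1)<|a (-1)<|a 3<|a (-1)<|a 1<|a (-1)<|a 1<|a (-1)<|a (-1)<|a 3<|a 1<|a 1<|a (-1)<|a (-1)<|a 3<|a (-1)<|b)<|
 a (a 3<|a (-1)<|a (-3)<|a 3<|a 1<|a (-3)<|a (-1)<|a 1<|a 1<|a 1<|a 1<|a 1<|a 3<|a 1<|a (-1)<|a 1<|a 1<|a 1<|a (-1)<|a (-1)<|a 1<|a 1<|a 1<|a 1<|b)<|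
 a (a 3<|a (-1)<|a 1<|a (-1)<|a 1<|a 1<|a (-1)<|a 1<|a (-3)<|a 1<|a (-3)<|a 1<|a (-1)<|a 1<|a (-1)<|a (-3)<|a 1<|a 1<|a (-1)<|a (-1)<|a 1<|a 1<|a 1<|a (-3)<|b)<|
 a (a 1<|a 1<|a (-1)<|a 1<|a 3<|a (-1)<|a 1<|a (-1)<|a (-1)<|a (-1)<|a (-1)<|a (-1)<|a (-3)<|a (-1)<|a 1<|a 3<|a (-1)<|a (-1)<|a 1<|a 1<|a 3<|a (-1)<|a 3<|a (-1)<|b)<|
 a (a (-1)<|a 3<|a (-3)<|a (-1)<|a 1<|a 1<|a (-1)<|a 1<|a (-3)<|a (-3)<|a 1<|a 1<|a (-1)<|a 1<|a (-1)<|a 1<|a 1<|a 1<|a (-1)<|a (-1)<|a (-3)<|a 1<|a 1<|a 1<|b)<|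
 a (a 3<|a (-1)<|a 1<|a (-1)<|a 1<|a 1<|a (-1)<|a (-3)<|a 1<|a 1<|a 1<|a 1<|a (-1)<|a (-3)<|a (-1)<|a 1<|a 1<|a (-3)<|a (-1)<|a (-1)<|a (-3)<|a 1<|a 1<|a 1<|b)<|
 a (a 1<|a (-3)<|a (-1)<|a 1<|a (-1)<|a (-1)<|a 1<|a (-1)<|a (-1)<|a (-1)<|a (-1)<|a (-1)<|a (-3)<|a (-1)<|a (-3)<|a (-1)<|a (-1)<|a 3<|a 1<|a 1<|a (-1)<|a (-1)<|a (-1)<|a 3<|b)<|
 a (a (-1)<|a 3<|a 1<|a 3<|a 1<|a 1<|a 3<|a 1<|a 1<|a 1<|a 1<|a 1<|a (-1)<|a (-3)<|a (-1)<|a (-3)<|a 1<|a 1<|a (-1)<|a (-1)<|a 1<|a 1<|a 1<|a 1<|b)<|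
 a (a (-1)<|a (-1)<|a (-3)<|a (-1)<|a 1<|a 1<|a (-1)<|a (-3)<|a 1<|a 1<|a 1<|a 1<|a (-1)<|a 1<|a 3<|a (-3)<|a (-3)<|a 1<|a (-1)<|a (-1)<|a 1<|a 1<|a 1<|a 1<|b)<|
 a (a 1<|a 1<|a (-1)<|a (-3)<|a (-1)<|a (-1)<|a 1<|a (-1)<|a (-1)<|a (-1)<|a 3<|a (-1)<|a 1<|a (-1)<|a (-3)<|a (-1)<|a (-1)<|a (-1)<|a (-3)<|a 1<|a 3<|a (-1)<|a (-1)<|a (-1)<|b)<|
 a (a 1<|a 1<|a (-1)<|a 1<|a (-1)<|a 3<|a 1<|a (-1)<|a (-1)<|a 3<|a (-1)<|a (-1)<|a 1<|a (-1)<|a 1<|a 3<|a (-1)<|a 3<|a (-3)<|a 1<|a (-1)<|a (-1)<|a (-1)<|a (-1)<|b)<|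
 a (a (-1)<|a (-1)<|a 1<|a (-1)<|a 1<|a 1<|a 3<|a (-3)<|a (-3)<|a 1<|a 1<|a 1<|a 3<|a 1<|a (-1)<|a 1<|a 1<|a 1<|a 3<|a (-1)<|a 1<|a 1<|a 1<|a 1<|b)<|
 a (a 1<|a 1<|a 3<|a 1<|a 3<|a (-1)<|a 1<|a (-1)<|a (-1)<|a (-1)<|a (-1)<|a (-1)<|a 1<|a 3<|a 1<|a (-1)<|a (-1)<|a (-1)<|a (-3)<|a 1<|a (-1)<|a (-1)<|a (-1)<|a 3<|b)<|
 a (a 1<|a 1<|a (-1)<|a 1<|a (-1)<|a (-1)<|a 1<|a (-1)<|a (-1)<|a (-1)<|a (-1)<|a 3<|a 1<|a (-1)<|a 1<|a (-1)<|a (-1)<|a (-1)<|a 1<|a (-3)<|a (-1)<|a (-5)<|a (-1)<|a (-1)<|b)<|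
 a (a (-1)<|a (-1)<|a 1<|a 3<|a 1<|a 1<|a (-1)<|a (-3)<|a 1<|a (-3)<|a 1<|a 1<|a (-1)<|a 1<|a (-1)<|a 1<|a 1<|a 1<|a (-1)<|a (-1)<|a 1<|a 1<|a (-3)<|a (-3)<|b)<|
 a (a 1<|a 1<|a (-1)<|a 1<|a (-1)<|a 3<|a 1<|a (-1)<|a 3<|a (-1)<|a (-1)<|a (-1)<|a 1<|a 3<|a (-3)<|a (-1)<|a (-1)<|a (-1)<|a 1<|a 1<|a (-1)<|a (-1)<|a 3<|a (-1)<|b)<|b))

/-- columns -/
def cY : List (List ℤ) := (beta% delta% lq26680710b1 fun a b =>
 (a (a (-1)<|a (-3)<|a (-3)<|a 1<|a 1<|a (-1)<|a (-1)<|a (-1)<|a 1<|a 3<|a 3<|a 1<|a (-1)<|a 3<|a 1<|a (-1)<|a (-1)<|a 1<|a 1<|a (-1)<|a 1<|a 1<|a (-1)<|a 1<|b)<|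
 a (a (-1)<|a (-3)<|a 1<|a 1<|a 1<|a (-1)<|a (-1)<|a 3<|a 1<|a (-1)<|a (-1)<|a 1<|a 3<|a (-1)<|a (-3)<|a 3<|a (-1)<|a 1<|a 1<|a (-1)<|a 1<|a 1<|a (-1)<|a 1<|b)<|
 a (a 1<|a (-1)<|a (-1)<|a (-1)<|a (-1)<|a 1<|a 1<|a 1<|a 3<|a (-3)<|a 1<|a (-1)<|a (-3)<|a 1<|a (-1)<|a 1<|a (-3)<|a (-1)<|a (-1)<|a 1<|a 3<|a (-1)<|a 1<|a (-1)<|b)<|
 a (a (-1)<|a 1<|a 1<|a (-3)<|a 1<|a (-1)<|a (-1)<|a (-1)<|a 1<|a 3<|a (-1)<|a 1<|a (-1)<|a (-1)<|a 1<|a 3<|a (-1)<|a (-3)<|a 1<|a (-1)<|a 1<|a 1<|a 3<|a 1<|b)<|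
 a (a 1<|a (-1)<|a 3<|a 3<|a (-1)<|a 1<|a 1<|a (-3)<|a (-1)<|a 1<|a 1<|a 3<|a 1<|a 1<|a (-1)<|a 1<|a 1<|a (-1)<|a (-1)<|a 1<|a 3<|a (-1)<|a 1<|a (-1)<|b)<|
 a (a 1<|a (-1)<|a (-1)<|a (-1)<|a (-1)<|a (-3)<|a 1<|a (-3)<|a (-1)<|a (-3)<|a 1<|a (-1)<|a 1<|a 1<|a (-1)<|a 1<|a 1<|a (-1)<|a 3<|a 1<|a (-1)<|a (-1)<|a 1<|a 3<|b)<|
 a (a (-1)<|a 1<|a (-3)<|a 1<|a 1<|a 3<|a (-1)<|a (-1)<|a (-3)<|a (-1)<|a (-1)<|a 1<|a (-1)<|a (-1)<|a 1<|a 3<|a (-1)<|a 1<|a 1<|a 3<|a 1<|a 1<|a (-1)<|a 1<|b)<|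
 a (a 1<|a (-1)<|a (-1)<|a (-1)<|a (-1)<|a 1<|a 1<|a (-3)<|a (-1)<|a 1<|a 1<|a (-1)<|a 1<|a (-3)<|a (-1)<|a 1<|a (-3)<|a (-1)<|a (-1)<|a (-3)<|a (-1)<|a (-1)<|a (-3)<|a (-1)<|b)<|
 a (a 1<|a (-1)<|a (-1)<|a 3<|a (-1)<|a 1<|a 1<|a 1<|a (-1)<|a 1<|a (-3)<|a (-1)<|a (-3)<|a 1<|a (-1)<|a 1<|a 1<|a (-1)<|a (-1)<|a (-3)<|a (-1)<|a (-1)<|a 1<|a 3<|b)<|
 a (a (-3)<|a (-1)<|a 3<|a (-1)<|a (-1)<|a 1<|a 1<|a 1<|a (-1)<|a 1<|a 1<|a (-1)<|a (-3)<|a 1<|a (-1)<|a 1<|a 1<|a (-1)<|a 3<|a 1<|a (-1)<|a (-1)<|a (-3)<|a (-1)<|b)<|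
 a (a (-3)<|a (-1)<|a (-1)<|a (-1)<|a (-1)<|a 1<|a 1<|a (-3)<|a 3<|a 1<|a (-3)<|a (-1)<|a 1<|a 1<|a (-1)<|a 1<|a 1<|a 3<|a (-1)<|a 1<|a (-1)<|a (-1)<|a 1<|a (-1)<|b)<|
 a (a 1<|a (-1)<|a (-1)<|a (-1)<|a (-5)<|a 1<|a (-3)<|a 1<|a (-1)<|a 1<|a 1<|a (-1)<|a 1<|a 1<|a (-1)<|a 1<|a 1<|a (-1)<|a (-1)<|a 1<|a (-1)<|a 3<|a 1<|a (-1)<|b)<|
 a (a 3<|a 1<|a 1<|a 1<|a 1<|a (-1)<|a (-1)<|a (-1)<|a 1<|a 3<|a (-1)<|a (-3)<|a (-1)<|a (-1)<|a (-3)<|a (-1)<|a (-1)<|a 1<|a 1<|a 3<|a 1<|a 1<|a (-1)<|a 1<|b)<|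
 a (a (-3)<|a (-1)<|a (-1)<|a (-1)<|a (-1)<|a 1<|a 1<|a 1<|a (-1)<|a 1<|a 1<|a (-1)<|a 1<|a (-3)<|a (-1)<|a (-3)<|a 1<|a (-1)<|a (-1)<|a 1<|a 3<|a (-1)<|a 1<|a 3<|b)<|
 a (a (-1)<|a 1<|a (-3)<|a 1<|a 1<|a (-1)<|a (-1)<|a (-1)<|a 1<|a (-1)<|a (-1)<|a 1<|a (-1)<|a (-1)<|a (-3)<|a (-1)<|a 3<|a (-3)<|a 1<|a (-1)<|a 1<|a 1<|a (-1)<|a (-3)<|b)<|
 a (a 1<|a (-1)<|a (-1)<|a (-1)<|a (-1)<|a 1<|a 1<|a 1<|a (-1)<|a 1<|a (-3)<|a 3<|a 1<|a 1<|a (-1)<|a (-3)<|a (-3)<|a (-1)<|a 3<|a 1<|a (-1)<|a (-1)<|a 1<|a (-1)<|b)<|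
 a (a (-3)<|a 3<|a (-1)<|a 3<|a (-1)<|a (-3)<|a 1<|a 1<|a (-1)<|a 1<|a 1<|a (-1)<|a 1<|a 1<|a (-1)<|a 1<|a (-3)<|a (-1)<|a (-1)<|a 1<|a (-1)<|a (-1)<|a 1<|a (-1)<|b)<|
 a (a 1<|a (-1)<|a (-1)<|a 3<|a (-1)<|a 1<|a 1<|a 1<|a 3<|a 1<|a 1<|a (-1)<|a 1<|a (-3)<|a 3<|a 1<|a 1<|a (-1)<|a 3<|a 1<|a (-1)<|a (-1)<|a 1<|a (-1)<|b)<|
 a (a (-1)<|a (-3)<|a 1<|a 1<|a 1<|a (-1)<|a (-1)<|a (-1)<|a 1<|a (-1)<|a (-1)<|a 1<|a (-1)<|a (-1)<|a 1<|a (-1)<|a (-1)<|a (-3)<|a (-3)<|a 3<|a (-3)<|a 1<|a (-1)<|a 1<|b)<|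
 a (a (-1)<|a 1<|a 1<|a 1<|a (-3)<|a (-1)<|a (-5)<|a (-1)<|a 1<|a (-1)<|a (-1)<|a 1<|a (-1)<|a (-1)<|a 1<|a (-1)<|a (-1)<|a 1<|a 1<|a (-1)<|a 1<|a (-3)<|a (-1)<|a 1<|b)<|
 a (a 1<|a (-1)<|a (-1)<|a (-1)<|a (-1)<|a (-3)<|a 1<|a 1<|a (-1)<|a 1<|a 1<|a 3<|a (-3)<|a (-3)<|a (-1)<|a 1<|a 1<|a 3<|a (-1)<|a 1<|a (-1)<|a (-1)<|a 1<|a (-1)<|b)<|
 a (a 1<|a (-1)<|a (-1)<|a (-1)<|a 3<|a 1<|a (-3)<|a 1<|a (-1)<|a 1<|a 1<|a (-1)<|a 1<|a 1<|a (-1)<|a 1<|a 1<|a (-1)<|a (-1)<|a 1<|a (-1)<|a (-5)<|a 1<|a (-1)<|b)<|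
 a (a 1<|a 3<|a (-1)<|a (-1)<|a (-1)<|a 1<|a 1<|a 1<|a 3<|a 1<|a 1<|a 3<|a 1<|a 1<|a (-1)<|a 1<|a 1<|a (-1)<|a (-1)<|a 1<|a (-1)<|a (-1)<|a (-3)<|a 3<|b)<|
 a (a 1<|a (-1)<|a (-1)<|a (-1)<|a (-1)<|a (-3)<|a 1<|a 1<|a (-1)<|a 1<|a (-3)<|a (-1)<|a 1<|a 1<|a 3<|a 1<|a 1<|a (-1)<|a (-1)<|a 1<|a 3<|a (-1)<|a (-3)<|a (-1)<|b)<|b))

/-- rows: the conjugating element -/
def rG : List (List ℤ) :=
  (by
  refine (?fq9014 : ((pk61l (fun i1 => (pk61l (fun i2 => (pk61z (pk61d (nat_lit 4) 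
    (nat_lit 0x11611261111212121552112611111216161265121522112161111211611215121222115616111516111212151222112611116211161212126222612622222622222621215611226261611216116212126222112111161211111212621222192125222122255121212161226222222122222126265166221225222152522151215111221225522122222626212111521211191211111212621222162122525122222151262111226252222152252621262111221222522622552121212116221266116211111212121525112122252122222121a121112512222221222256512121162215111112661112121212256151222256522251262121112212111112116162121515226121611115111112621212526121222251255226212121612212) i2))) (Nat.mul (nat_lit 24) i1) (Nat.mul (nat_lit 24) (Nat.succ i1)) List.nil)) (nat_lit 0) (nat_lit 24) List.nil) : List (List ℤ))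
    = ?xq9014 → (List (List ℤ))) ?hq9014; (case hq9014 => (set_option maxRecDepth 1000000 in conv => lhs; reduce)); intro _; exact ?xq9014 : List (List ℤ))

/-- columns -/
def cG : List (List ℤ) :=
  (by
  refine (?fq9015 : ((pk61l (fun i1 => (pk61l (fun i2 => (pk61z (pk61d (nat_lit 4) 
    (nat_lit 0x11611261222212526221216211161211525512226221211261111261222515251221211211111216222292221521211211116211222215226221511522252622111121162112625161111211225212521226511216161261222212221226211511611211225212251221261516116211522212551221211211111261522212221251561222222622111621612162122616111211225215221251216225522122161621112112622111111216222262221a212112222521221611266121121521111165612552122212212112552226221111211151121521522221226611211121121256222221221611211651651221111162112225122212262662111112192222622215212112225226226111261121151221616662112222122212512112) i2))) (Nat.mul (nat_lit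 24) i1) (Nat.mul (nat_lit 24) (Nat.succ i1)) List.nil)) (nat_lit 0) (nat_lit 24) List.nil) : List (List ℤ))
    = ?xq9015 → (List (List ℤ))) ?hq9015; (case hq9015 => (set_option maxRecDepth 1000000 in conv => lhs; reduce)); intro _; exact ?xq9015 : List (List ℤ))

theorem okA : Ok rA cA := CoOneType.CoFast.ok_of_okZ (by exact Cfsg.Agent.CoOneType.CoQ.okz_of (by decide +kernel))

theorem okB : Ok rB cB := CoOneType.CoFast.ok_of_okZ (by exact Cfsg.Agent.CoOneType.CoQ.okz_of (by decide +kernel))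

theorem okD : Ok rD cD := CoOneType.CoFast.ok_of_okZ (by exact Cfsg.Agent.CoOneType.CoQ.okz_of (by decide +kernel))

theorem okH : Ok rH cH := CoOneType.CoFast.ok_of_okZ (by exact Cfsg.Agent.CoOneType.CoQ.okz_of (by decide +kernel))

theorem okS : Ok rS cS := CoOneType.CoFast.ok_of_okZ (by exact Cfsg.Agent.CoOneType.CoQ.okz_of (by decide +kernel))

theorem okR : Ok rR cR := CoOneType.CoFast.ok_of_okZ (by exact Cfsg.Agent.CoOneType.CoQ.okz_of (by decide +kernel))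

theorem okT : Ok rT cT := CoOneType.CoFast.ok_of_okZ (by exact Cfsg.Agent.CoOneType.CoQ.okz_of (by decide +kernel))

theorem okY : Ok rY cY := CoOneType.CoFast.ok_of_okZ (by exact Cfsg.Agent.CoOneType.CoQ.okz_of (by decide +kernel))

theorem okG : Ok rG cG := CoOneType.CoFast.ok_of_okZ (by exact Cfsg.Agent.CoOneType.CoQ.okz_of (by decide +kernel))

/-- The letters `a b d h s r t y g` and their inverses. -/
def M : ℕ → List (List ℤ)
  | 0 => rA
  | 1 => rB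
  | 2 => rD
  | 3 => rH
  | 4 => rS
  | 5 => rR
  | 6 => rT
  | 7 => rY
  | 8 => rG
  | 9 => cA
  | 10 => cB
  | 11 => cD
  | 12 => cH
  | 13 => cS
  | 14 => cR
  | 15 => cT
  | 16 => cY
  | _ => cG

/-- The elements of `Co₀`. -/
def e : ℕ → Co0
  | 0 => mk okA
  | 1 => mk okB
  | 2 => mk okD
  | 3 => mk okH
  | 4 => mk okS
  | 5 => mk okR
  | 6 => mk okT
  | 7 => mk okY
  | 8 => mk okG
  | 9 => (mk okA)⁻¹
  | 10 => (mk okB)⁻¹
  | 11 => (mk okD)⁻¹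
  | 12 => (mk okH)⁻¹
  | 13 => (mk okS)⁻¹
  | 14 => (mk okR)⁻¹
  | 15 => (mk okT)⁻¹
  | 16 => (mk okY)⁻¹
  | _ => (mk okG)⁻¹

theorem rep : ∀ i, Rep (e i) (M i)
  | 0 => rep_mk okA
  | 1 => rep_mk okB
  | 2 => rep_mk okD
  | 3 => rep_mk okH
  | 4 => rep_mk okS
  | 5 => rep_mk okR
  | 6 => rep_mk okT
  | 7 => rep_mk okY
  | 8 => rep_mk okG
  | 9 => rep_inv okA
  | 10 => rep_inv okB
  | 11 => rep_inv okD
  | 12 => rep_inv okH
  | 13 => rep_inv okS
  | 14 => rep_inv okR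
  | 15 => rep_inv okT
  | 16 => rep_inv okY
  | _ + 17 => rep_inv okG

end Cfsg.Agent.CpAutCoOneFive.Mat
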