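import Cfsg.Agent.CpAutBig.Tab
import Cfsg.Agent.CpAutCoOneFive.Mat
import Cfsg.Agent.CoOneType.CoW
import Cfsg.Agent.CpAutBig.CoZero
import Cfsg.Agent.CoOneType.CoAp
import Cfsg.Agent.CpAutBig.FreeInv_m3
import Mathlib
import Cfsg.Agent.FastGrp
import Cfsg.Agent.Prune
set_option linter.all false

section
prune_inst 0x7ffffffffffcffffffff7e7ffffffffdbbfbbfffe6dff9fbffedeffffbff7fefebedfbaf6fe4d0ffded6e09e10787b53fffffeffef6ffc7ffffdfff41ffbffdffdf7b50971fd9cbe0fbe6fff93f17faf7f3fffffffffffffffffffffffffffffffffffffffff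

-- part: CpAutCoOneFive/FivePerm
section
prune_inst 0x300000000000000000002400440000900020000021000040080101010000090022300202016202a808004000001000090010000020000600400000208083400022340d0410000680a805000000000000000000000000000000000000000000000
set_option linter.all false
open scoped Cfsg.Agent.FastGrp

/-!
# The centraliser in `Co0` of a permutation of cycle type `1^4 5^4` (helper6)

`pi5` : the permutation, `pi5_mem : pi5 ∈ M24`, fixing the points 6, 7, 18, 21;
`card_le` : an element of `Co0` acting as `pi5` on the coordinates has a centraliser of order at most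
`16 * 60 * 75 = 72000`.
-/

set_option autoImplicit false
open scoped Pointwise

namespace Cfsg.Agent.CpAutCoOneFive.FivePerm

open Cfsg Cfsg.Agent.SporadicA.GolayBase Cfsg.Agent.SporadicStructure.TabPerm
open Cfsg.Agent.CpAutBig.FixCount Cfsg.Agent.CpAutBig.Tab Cfsg.Agent.CpAutBig
open Cfsg.Agent.MonsterX.FrameStab (IsPerm)

def F5 : List ℕ := [9, 12, 3, 11, 2, 15, 6, 7, 14, 17, 8, 20, 16, 1, 5, 10, 23, 22, 18, 0, 4, 21, 19, 13]
def G5 : List ℕ := [19, 13, 4, 2, 20, 14, 6, 7, 10, 0, 15, 3, 1, 23, 8, 5, 12, 9, 18, 22, 11, 21, 17, 16]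
theorem chk5 : chk F5 G5 = true := by decide +kernel

/-- The permutation of cycle type `1^4 5^4`. -/
def pi5 : Equiv.Perm GolayPt := tabPerm F5 G5 chk5

theorem pi5_mem : pi5 ∈ M24 := tabPerm_mem_M24 _ _ _ (by decide +kernel)

theorem idx_pi5 (p : GolayPt) : idx (pi5 p) = F5.getD (idx p) 0 := idx_tab chk5 p

theorem pi5_fix {i : ℕ} (hi : i = 6 ∨ i = 7 ∨ i = 18 ∨ i = 21) : pi5 (pt i) = pt i := by
  apply idx_injective
  rw [idx_pi5]
  rcases hi with rfl | rfl | rfl | rfl <;> rw [idx_pt (by norm_num)] <;> decide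

theorem fix_iff (p : GolayPt) : pi5 p = p ↔ idx p = 6 ∨ idx p = 7 ∨ idx p = 18 ∨ idx p = 21 := by
  have h : ∀ i < 24, (F5.getD i 0 = i ↔ i = 6 ∨ i = 7 ∨ i = 18 ∨ i = 21) := by decide +kernel
  rw [← idx_injective.eq_iff, idx_pi5]
  exact h _ (idx_lt p)

/-! ### Invariant words -/

/-! ### The centraliser in `M24` -/

/-! ### The centraliser in `Co0` -/

/-- two vectors of the list differ, also up to sign -/
def difB (a b : ℕ) : Bool :=
  (!((List.range 8).all fun k => decide (dg a k = dg b k))) && !((List.range 8).all fun k => decide (dg a k = -dg b k))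

def pairB : List ℕ → Bool
  | [] => true
  | a :: l => l.all (difB a) && pairB l

end Cfsg.Agent.CpAutCoOneFive.FivePerm

private theorem dce_6d3ec8f7663e : _root_.True := by
  try have : _root_.True := by simp only [_root_.Cfsg.Agent.CpAutCoOneFive.FivePerm.pairB.eq_def]
  try have : _root_.True := by simp only [_root_.Cfsg.Agent.CpAutCoOneFive.FivePerm.pairB.eq_2]
  try have : _root_.True := by simp only [_root_.Cfsg.Agent.CpAutCoOneFive.FivePerm.pairB.eq_1]
  exact _root_.True.intro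
end

-- part: CpAutCoOneFive/MatRel
section
prune_inst 0x3000000000180000000024404400019200600001210000400801014120450901b2f0021291f61ef83848c00000100109003800002000be004002002084af68a026341f04190006c0e805080c00000000000000000000000000000000000000000
set_option linter.all false
open scoped Cfsg.Agent.FastGrp

/-!
# Elements of order five of `Co₀`: relations (helper6)

Generated by a script; checked by the kernel.
-/

set_option autoImplicit false
set_option Elab.async false
set_option maxRecDepth 100000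

namespace Cfsg.Agent.CpAutCoOneFive.Mat

open Cfsg Cfsg.Agent.SporadicStructure.Co0Matrix Cfsg.Agent.CoOneType.CoEval

/-- two words with the same value on `beta` -/
def eqB (w w' : List ℕ) : Bool := eqL (fold M w betaL) (fold M w' betaL)

theorem rel_a5 : eqB [0, 0, 0, 0, 0]
    [] = true := by (delta Cfsg.Agent.CpAutCoOneFive.Mat.eqB; rewrite [Cfsg.Agent.CoOneType.CoW.fold_eq]; decide +kernel)

theorem rel_b5 : eqB [1, 1, 1, 1, 1]
    [] = true := by (delta Cfsg.Agent.CpAutCoOneFive.Mat.eqB; rewrite [Cfsg.Agent.CoOneType.CoW.fold_eq]; decide +kernel)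

theorem rel_d5 : eqB [2, 2, 2, 2, 2]
    [] = true := by (delta Cfsg.Agent.CpAutCoOneFive.Mat.eqB; rewrite [Cfsg.Agent.CoOneType.CoW.fold_eq]; decide +kernel)

theorem rel_c5 : eqB [0, 1, 9, 10, 0, 1, 9, 10, 0, 1, 9, 10, 0, 1, 9, 10, 0, 1, 9, 10]
    [] = true := by (delta Cfsg.Agent.CpAutCoOneFive.Mat.eqB; rewrite [Cfsg.Agent.CoOneType.CoW.fold_eq]; decide +kernel)

theorem rel_ac : eqB [0, 0, 1, 9, 10]
    [0, 1, 9, 10, 0] = true := by (delta Cfsg.Agent.CpAutCoOneFive.Mat.eqB; rewrite [Cfsg.Agent.CoOneType.CoW.fold_eq]; decide +kernel)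

theorem rel_bc : eqB [1, 0, 1, 9, 10]
    [0, 1, 9, 10, 1] = true := by (delta Cfsg.Agent.CpAutCoOneFive.Mat.eqB; rewrite [Cfsg.Agent.CoOneType.CoW.fold_eq]; decide +kernel)

theorem rel_dc : eqB [2, 0, 1, 9, 10]
    [0, 1, 9, 10, 2] = true := by (delta Cfsg.Agent.CpAutCoOneFive.Mat.eqB; rewrite [Cfsg.Agent.CoOneType.CoW.fold_eq]; decide +kernel)

theorem rel_da : eqB [2, 0]
    [0, 2] = true := by (delta Cfsg.Agent.CpAutCoOneFive.Mat.eqB; rewrite [Cfsg.Agent.CoOneType.CoW.fold_eq]; decide +kernel)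

theorem rel_bd : eqB [1, 2]
    [0, 0, 0, 0, 0, 1, 9, 10, 0, 1, 9, 10, 2, 1] = true := by (delta Cfsg.Agent.CpAutCoOneFive.Mat.eqB; rewrite [Cfsg.Agent.CoOneType.CoW.fold_eq]; decide +kernel)

theorem rel_hd : eqB [3, 2]
    [0, 1, 9, 10, 2, 2, 3] = true := by (delta Cfsg.Agent.CpAutCoOneFive.Mat.eqB; rewrite [Cfsg.Agent.CoOneType.CoW.fold_eq]; decide +kernel)

theorem rel_sc : eqB [4, 0, 1, 9, 10]
    [0, 0, 0, 0, 0, 1, 9, 10, 2, 2, 4] = true := by (delta Cfsg.Agent.CpAutCoOneFive.Mat.eqB; rewrite [Cfsg.Agent.CoOneType.CoW.fold_eq]; decide +kernel)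

theorem rel_rc : eqB [5, 0, 1, 9, 10]
    [0, 0, 0, 0, 0, 1, 9, 10, 2, 5] = true := by (delta Cfsg.Agent.CpAutCoOneFive.Mat.eqB; rewrite [Cfsg.Agent.CoOneType.CoW.fold_eq]; decide +kernel)

theorem rel_tc : eqB [6, 0, 1, 9, 10]
    [0, 1, 9, 10, 0, 1, 9, 10, 6] = true := by (delta Cfsg.Agent.CpAutCoOneFive.Mat.eqB; rewrite [Cfsg.Agent.CoOneType.CoW.fold_eq]; decide +kernel)

theorem rel_td : eqB [6, 2]
    [0, 0, 0, 0, 1, 9, 10, 2, 2, 2, 6] = true := by (delta Cfsg.Agent.CpAutCoOneFive.Mat.eqB; rewrite [Cfsg.Agent.CoOneType.CoW.fold_eq]; decide +kernel)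

theorem ne_c : neB M [0, 1, 9, 10] = true := by (delta Cfsg.Agent.CoOneType.CoEval.neB; rewrite [Cfsg.Agent.CoOneType.CoW.fold_eq]; decide +kernel)

/-- the sum of the squares of the entries -/
def nrm (l : List ℤ) : ℤ := (l.map fun a => a * a).sum

/-- a lattice vector of norm `n` fixed by a word -/
def fixB (w : List ℕ) (l : List ℤ) (n : ℤ) : Bool :=
  eqL (fold M w l) l && leechB l && decide (nrm l = n) && Nat.beq l.length 24

/-- a vector of norm 64 fixed by `b` -/
def lB : List ℤ := [-6, 0, 0, 0, 0, -2, -2, 0, -2, 0, -2, 0, 0, 0, 0, -2, 2, 0, 0, 0, -2, 0, 0, 0]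

theorem fix_b : fixB [1] lB 64 = true := by (delta Cfsg.Agent.CpAutCoOneFive.Mat.fixB; rewrite [Cfsg.Agent.CoOneType.CoW.fold_eq]; decide +kernel)

/-- a vector of norm 32 fixed by `a` and `b` -/
def l32 : List ℤ := [0, 0, 2, 2, 2, 0, 2, -2, 0, 0, 0, 2, 0, 0, 0, 0, 0, 0, 0, 0, 2, -2, 0, 0]

theorem fix32a : fixB [0] l32 32 = true := by (delta Cfsg.Agent.CpAutCoOneFive.Mat.fixB; rewrite [Cfsg.Agent.CoOneType.CoW.fold_eq]; decide +kernel)

theorem fix32b : fixB [1] l32 32 = true := by (delta Cfsg.Agent.CpAutCoOneFive.Mat.fixB; rewrite [Cfsg.Agent.CoOneType.CoW.fold_eq]; decide +kernel)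

/-- a vector of norm 48 fixed by `a` and `b` -/
def l48 : List ℤ := [0, 0, 2, 2, 2, 0, -2, -2, 0, 0, 0, 2, 0, 0, 0, 0, 0, 0, -4, 0, 2, -2, 0, 0]

theorem fix48a : fixB [0] l48 48 = true := by (delta Cfsg.Agent.CpAutCoOneFive.Mat.fixB; rewrite [Cfsg.Agent.CoOneType.CoW.fold_eq]; decide +kernel)

theorem fix48b : fixB [1] l48 48 = true := by (delta Cfsg.Agent.CpAutCoOneFive.Mat.fixB; rewrite [Cfsg.Agent.CoOneType.CoW.fold_eq]; decide +kernel)

/-- vectors fixed by `c^k d`, `k = 1, 2, 4` -/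
def lcd : ℕ → List ℤ
  | 1 => [-3, 1, 1, -1, 1, -1, 1, -1, 1, -1, 1, -1, 1, -1, -1, 1, 1, -1, -1, -1, -1, 1, -1, 1]
  | 2 => [-2, -2, -2, 0, 0, 0, 0, 0, 0, 0, 2, 2, 0, 2, -2, 0, 0, 0, 0, 2, 0, 0, 0, 0]
  | _ => [-2, 0, 2, -2, 0, 0, 0, 0, -2, 0, 0, 0, -2, 2, 2, 0, 0, 0, 0, 0, 0, 0, 2, 0]

theorem fix_cd1 : fixB [0, 1, 9, 10, 2] (lcd 1) 32 = true := by (delta Cfsg.Agent.CpAutCoOneFive.Mat.fixB; rewrite [Cfsg.Agent.CoOneType.CoW.fold_eq]; decide +kernel)

theorem fix_cd2 : fixB [0, 1, 9, 10, 0, 1, 9, 10, 2] (lcd 2) 32 = true := by (delta Cfsg.Agent.CpAutCoOneFive.Mat.fixB; rewrite [Cfsg.Agent.CoOneType.CoW.fold_eq]; decide +kernel)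

theorem fix_cd4 : fixB [0, 1, 9, 10, 0, 1, 9, 10, 0, 1, 9, 10, 0, 1, 9, 10, 2] (lcd 4) 32 = true := by (delta Cfsg.Agent.CpAutCoOneFive.Mat.fixB; rewrite [Cfsg.Agent.CoOneType.CoW.fold_eq]; decide +kernel)

/-- vectors fixed by `d^l b^j`, `1 ≤ l, j ≤ 4` -/
def ldb : ℕ → ℕ → List ℤ
  | 1, 1 => [-1, -1, 1, -1, -1, 1, -1, 1, -1, 3, -1, 1, -1, 1, -1, 1, 1, 1, 1, 1, 1, -1, -1, 1]
  | 1, 2 => [-1, -1, -1, -1, 1, -1, 1, 1, -1, 1, 3, -1, -1, 1, 1, -1, -1, 1, -1, -1, 1, -1, -1, -1]
  | 1, 3 => [-1, 1, -1, -1, 1, -1, 1, -1, 1, 1, -1, -1, -1, 1, 1, 1, -1, -1, -1, -3, 1, 1, 1, -1]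
  | 1, 4 => [0, 0, 0, 0, -2, 0, 0, 0, 0, 0, 0, 0, -2, 2, 0, 0, -2, 2, 0, 2, 2, 0, 0, -2]
  | 2, 1 => [-1, -1, 1, 1, -1, 1, 1, -1, -1, -1, 3, -1, -1, 1, -1, -1, -1, -1, -1, -1, -1, 1, 1, 1]
  | 2, 2 => [-1, -1, -1, 1, -1, -1, 1, 1, 1, -3, -1, -1, -1, -1, 1, 1, -1, 1, -1, 1, 1, -1, 1, 1]
  | 2, 3 => [-1, -1, -1, 1, -1, 1, 1, -1, 1, -1, -1, 1, 1, -1, -1, 1, -1, -3, -1, 1, -1, 1, 1, 1]
  | 2, 4 => [-2, -2, 0, 0, 0, -2, 0, 0, 0, 0, 0, 0, 0, 0, 2, -2, 0, 0, 0, 2, 2, 2, 0, 0]
  | 3, 1 => [-2, 2, 2, 0, 0, 0, 0, 0, 0, 0, 0, 0, 2, 0, 0, 0, 0, -2, 0, -2, -2, 0, 2, 0]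
  | 3, 2 => [-1, 1, 1, -1, -1, 1, 1, -1, 1, -1, 1, 1, -3, 1, -1, -1, -1, -1, -1, 1, -1, 1, -1, 1]
  | 3, 3 => [-1, -1, 1, -1, 1, 1, 1, -1, 1, 1, 1, -1, 1, -1, -1, -1, -1, 1, -1, -1, -1, 1, -3, 1]
  | 3, 4 => [-2, 2, 0, 0, 0, 2, 0, 0, 0, 2, 0, -2, 0, 2, 0, 0, 0, 0, 0, 0, 0, -2, 0, -2]
  | 4, 1 => [-1, -1, -1, 1, -1, -1, 1, -1, 3, -1, 1, -1, -1, 1, -1, -1, 1, 1, -1, -1, 1, 1, -1, -1]
  | 4, 2 => [0, -2, 0, 0, 2, 2, 0, 0, -2, -2, 0, 0, 0, 0, -2, 0, 0, 2, 0, 0, 0, 2, 0, 0]
  | 4, 3 => [-1, 1, -1, -1, -1, 1, 1, -1, -1, -3, 1, 1, -1, 1, 1, -1, -1, 1, -1, 1, 1, 1, -1, -1]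
  | _, _ => [-1, -3, -1, 1, -1, 1, 1, -1, 1, -1, 1, -1, 1, -1, -1, -1, 1, -1, -1, -1, 1, 1, 1, 1]

theorem fix_db : ∀ l ∈ [1, 2, 3, 4], ∀ j ∈ [1, 2, 3, 4],
    fixB (List.replicate l 2 ++ List.replicate j 1) (ldb l j) 32 = true := by (delta Cfsg.Agent.CpAutCoOneFive.Mat.fixB; rewrite [Cfsg.Agent.CoOneType.CoW.fold_eq]; decide +kernel)

/-- sum of lists -/
def addL (s t : List ℤ) : List ℤ := List.zipWith (· + ·) s t

/-- the image of `l` under `1 + w + w² + w³ + w⁴` -/
def sumW (w : List ℕ) (l : List ℤ) : List ℤ :=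
  addL l (addL (fold M w l) (addL (fold M w (fold M w l)) (addL (fold M w (fold M w (fold M w l)))
    (fold M w (fold M w (fold M w (fold M w l)))))))

/-- `8 e_i` -/
def eL (i : ℕ) : List ℤ := (List.range 24).map fun j => if Nat.beq i j then 8 else 0

/-- `1 + d + d² + d³ + d⁴ = 0` -/
theorem free_d : (List.range 24).all (fun i => eqL (sumW [2] (eL i)) (List.replicate 24 0)) = true := by
  (delta Cfsg.Agent.CpAutCoOneFive.Mat.sumW; rewrite [Cfsg.Agent.CoOneType.CoW.fold_eq]; decide +kernel)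

/-- a basis of the lattice fixed by `c` -/
def bs : List (List ℤ) := [
  [-1, -1, 1, 1, 1, 1, -3, -1, 1, -1, 1, 1, -1, -1, 1, 1, -1, -1, 1, -1, 1, -1, -1, -1],
  [1, 1, 1, 1, 1, 1, 1, 1, 1, 1, 1, 1, 1, 1, 1, 1, 1, 1, -3, 1, 1, 1, 1, 1],
  [0, 0, 0, 0, 0, -2, 0, -2, -2, 0, -2, 0, 0, 0, -2, -2, 0, 0, -2, 0, 0, -2, 0, 0],
  [0, 0, 2, 2, 2, 0, 2, -2, 0, 0, 0, 2, 0, 0, 0, 0, 0, 0, 0, 0, 2, -2, 0, 0]]

/-- coordinates -/
def co : List (List ℤ) := [
  [-1, 1, 0, 0],
  [-1, 1, 0, 0],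
  [1, 1, 0, 2],
  [1, 1, 0, 2],
  [1, 1, 0, 2],
  [1, 1, -2, 0],
  [-7, -3, -4, 6],
  [-1, 1, -2, -2],
  [1, 1, -2, 0],
  [-1, 1, 0, 0],
  [1, 1, -2, 0],
  [1, 1, 0, 2],
  [-1, 1, 0, 0],
  [-1, 1, 0, 0],
  [1, 1, -2, 0],
  [1, 1, -2, 0],
  [-1, 1, 0, 0],
  [-1, 1, 0, 0],
  [-3, -7, -6, 4],
  [-1, 1, 0, 0],
  [1, 1, 0, 2],
  [-1, 1, -2, -2],
  [-1, 1, 0, 0],
  [-1, 1, 0, 0]]

/-- linear combination -/
def lcomb : List ℤ → List (List ℤ) → List ℤ
  | x :: s, l :: t => addL (l.map fun a => x * a) (lcomb s t)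
  | _, _ => List.replicate 24 0

/-- one row of `rank_c` -/
def rowC (i : ℕ) : Bool := eqL (sumW [0, 1, 9, 10] (eL i)) (lcomb (co.getD i []) bs)

theorem rank_c0 : ([0, 1, 2] : List ℕ).all rowC = true := by (delta Cfsg.Agent.CpAutCoOneFive.Mat.rowC Cfsg.Agent.CpAutCoOneFive.Mat.sumW; rewrite [Cfsg.Agent.CoOneType.CoW.fold_eq]; decide +kernel)

theorem rank_c1 : ([3, 4, 5] : List ℕ).all rowC = true := by (delta Cfsg.Agent.CpAutCoOneFive.Mat.rowC Cfsg.Agent.CpAutCoOneFive.Mat.sumW; rewrite [Cfsg.Agent.CoOneType.CoW.fold_eq]; decide +kernel)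

theorem rank_c2 : ([6, 7, 8] : List ℕ).all rowC = true := by (delta Cfsg.Agent.CpAutCoOneFive.Mat.rowC Cfsg.Agent.CpAutCoOneFive.Mat.sumW; rewrite [Cfsg.Agent.CoOneType.CoW.fold_eq]; decide +kernel)

theorem rank_c3 : ([9, 10, 11] : List ℕ).all rowC = true := by (delta Cfsg.Agent.CpAutCoOneFive.Mat.rowC Cfsg.Agent.CpAutCoOneFive.Mat.sumW; rewrite [Cfsg.Agent.CoOneType.CoW.fold_eq]; decide +kernel)

theorem rank_c4 : ([12, 13, 14] : List ℕ).all rowC = true := by (delta Cfsg.Agent.CpAutCoOneFive.Mat.rowC Cfsg.Agent.CpAutCoOneFive.Mat.sumW; rewrite [Cfsg.Agent.CoOneType.CoW.fold_eq]; decide +kernel)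

theorem rank_c5 : ([15, 16, 17] : List ℕ).all rowC = true := by (delta Cfsg.Agent.CpAutCoOneFive.Mat.rowC Cfsg.Agent.CpAutCoOneFive.Mat.sumW; rewrite [Cfsg.Agent.CoOneType.CoW.fold_eq]; decide +kernel)

theorem rank_c6 : ([18, 19, 20] : List ℕ).all rowC = true := by (delta Cfsg.Agent.CpAutCoOneFive.Mat.rowC Cfsg.Agent.CpAutCoOneFive.Mat.sumW; rewrite [Cfsg.Agent.CoOneType.CoW.fold_eq]; decide +kernel)

theorem rank_c7 : ([21, 22, 23] : List ℕ).all rowC = true := by (delta Cfsg.Agent.CpAutCoOneFive.Mat.rowC Cfsg.Agent.CpAutCoOneFive.Mat.sumW; rewrite [Cfsg.Agent.CoOneType.CoW.fold_eq]; decide +kernel)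

theorem rank_c : (List.range 24).all (fun i => eqL (sumW [0, 1, 9, 10] (eL i)) (lcomb (co.getD i []) bs)) = true := by
  have h : List.range 24 = [0, 1, 2] ++ ([3, 4, 5] ++ ([6, 7, 8] ++ ([9, 10, 11] ++ ([12, 13, 14] ++ ([15, 16, 17] ++
      ([18, 19, 20] ++ [21, 22, 23])))))) := rfl
  change (List.range 24).all rowC = true
  rw [h, List.all_append, List.all_append, List.all_append, List.all_append, List.all_append, List.all_append,
    List.all_append, rank_c0, rank_c1, rank_c2, rank_c3, rank_c4, rank_c5, rank_c6, rank_c7]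
  rfl

theorem bs_ok : (bs.all fun l => leechB l && Nat.beq l.length 24) = true := by decide +kernel

theorem bs_length : bs.length = 4 := by decide +kernel

end Cfsg.Agent.CpAutCoOneFive.Mat
end

-- part: CpAutCoOneFive/Elem
section
set_option linter.all false
open scoped Cfsg.Agent.FastGrp

/-!
# The elements `a b c d` of order five of `Co₀` and some elements normalizing `⟨a, c, d⟩` (helper6)
-/

set_option autoImplicit false

namespace Cfsg.Agent.CpAutCoOneFive.Elem

open Cfsg Cfsg.Agent.SporadicStructure.Co0Base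
open Cfsg.Agent.SporadicStructure.Co0Matrix Cfsg.Agent.CoOneType.CoEval
open Cfsg.Agent.SporadicA
open Cfsg.Agent.CpAutCoOneFive.Mat

/-- a permutation of cycle type `1^4 5^4` -/
def a : Co0 := e 0
def b : Co0 := e 1
/-- without fixed vectors -/
def d : Co0 := e 2
def h : Co0 := e 3
/-- commutes with `d` -/
def s : Co0 := e 4
/-- commutes with `a` -/
def r : Co0 := e 5
/-- commutes with `a` -/
def t : Co0 := e 6
/-- a conjugate of `d` -/
def y : Co0 := e 7
def g : Co0 := e 8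

/-- the centre of a Sylow 5-subgroup -/
def c : Co0 := a * b * a⁻¹ * b⁻¹

theorem e9 : e 9 = (e 0)⁻¹ := rfl

theorem e10 : e 10 = (e 1)⁻¹ := rfl

theorem eq_of_eqB {w w' : List ℕ} (hw : eqB w w' = true) : (w.map e).prod = (w'.map e).prod := by
  apply eq_of_fix
  apply Subtype.ext
  have h1 := (fold_spec rep w (l := betaL) (v := beta) (by decide) rfl).2
  have h2 := (fold_spec rep w' (l := betaL) (v := beta) (by decide) rfl).2
  rw [h1, h2, eqL_eq hw]

theorem a_pow : a ^ 5 = 1 := by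
  have h1 := eq_of_eqB rel_a5
  simp only [List.map_cons, List.map_nil, List.prod_cons, List.prod_nil, mul_one] at h1
  simp only [a, pow_succ, pow_zero, one_mul, mul_assoc]
  exact h1

theorem b_pow : b ^ 5 = 1 := by
  have h1 := eq_of_eqB rel_b5
  simp only [List.map_cons, List.map_nil, List.prod_cons, List.prod_nil, mul_one] at h1
  simp only [b, pow_succ, pow_zero, one_mul, mul_assoc]
  exact h1

theorem d_pow : d ^ 5 = 1 := by
  have h1 := eq_of_eqB rel_d5
  simp only [List.map_cons, List.map_nil, List.prod_cons, List.prod_nil, mul_one] at h1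
  simp only [d, pow_succ, pow_zero, one_mul, mul_assoc]
  exact h1

theorem c_pow : c ^ 5 = 1 := by
  have h1 := eq_of_eqB rel_c5
  simp only [List.map_cons, List.map_nil, List.prod_cons, List.prod_nil, mul_one, e9, e10] at h1
  simp only [c, a, b, pow_succ, pow_zero, one_mul, mul_assoc]
  exact h1

theorem ac : a * c = c * a := by
  have h1 := eq_of_eqB rel_ac
  simp only [List.map_cons, List.map_nil, List.prod_cons, List.prod_nil, mul_one, e9, e10] at h1
  simp only [c, a, b, mul_assoc]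
  exact h1

theorem bc : b * c = c * b := by
  have h1 := eq_of_eqB rel_bc
  simp only [List.map_cons, List.map_nil, List.prod_cons, List.prod_nil, mul_one, e9, e10] at h1
  simp only [c, a, b, mul_assoc]
  exact h1

theorem dc : d * c = c * d := by
  have h1 := eq_of_eqB rel_dc
  simp only [List.map_cons, List.map_nil, List.prod_cons, List.prod_nil, mul_one, e9, e10] at h1
  simp only [c, a, b, d, mul_assoc]
  exact h1

theorem da : d * a = a * d := by
  have h1 := eq_of_eqB rel_da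
  simp only [List.map_cons, List.map_nil, List.prod_cons, List.prod_nil, mul_one] at h1
  exact h1

theorem bd : b * d = a ^ 4 * c ^ 2 * d * b := by
  have h1 := eq_of_eqB rel_bd
  simp only [List.map_cons, List.map_nil, List.prod_cons, List.prod_nil, mul_one, e9, e10] at h1
  simp only [c, a, b, d, pow_succ, pow_zero, one_mul, mul_assoc]
  exact h1

theorem hd : h * d = c * d ^ 2 * h := by
  have h1 := eq_of_eqB rel_hd
  simp only [List.map_cons, List.map_nil, List.prod_cons, List.prod_nil, mul_one, e9, e10] at h1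
  simp only [c, a, b, d, h, pow_succ, pow_zero, one_mul, mul_assoc]
  exact h1

theorem sc : s * c = a ^ 4 * c * d ^ 2 * s := by
  have h1 := eq_of_eqB rel_sc
  simp only [List.map_cons, List.map_nil, List.prod_cons, List.prod_nil, mul_one, e9, e10] at h1
  simp only [c, a, b, d, s, pow_succ, pow_zero, one_mul, mul_assoc]
  exact h1

theorem rc : r * c = a ^ 4 * c * d * r := by
  have h1 := eq_of_eqB rel_rc
  simp only [List.map_cons, List.map_nil, List.prod_cons, List.prod_nil, mul_one, e9, e10] at h1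
  simp only [c, a, b, d, r, pow_succ, pow_zero, one_mul, mul_assoc]
  exact h1

theorem tc : t * c = c ^ 2 * t := by
  have h1 := eq_of_eqB rel_tc
  simp only [List.map_cons, List.map_nil, List.prod_cons, List.prod_nil, mul_one, e9, e10] at h1
  simp only [c, a, b, t, pow_succ, pow_zero, one_mul, mul_assoc]
  exact h1

theorem td : t * d = a ^ 3 * c * d ^ 3 * t := by
  have h1 := eq_of_eqB rel_td
  simp only [List.map_cons, List.map_nil, List.prod_cons, List.prod_nil, mul_one, e9, e10] at h1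
  simp only [c, a, b, d, t, pow_succ, pow_zero, one_mul, mul_assoc]
  exact h1

theorem c_ne : c ≠ 1 := by
  intro h1
  have h2 := ne_one_of_neB rep ne_c
  apply h2
  rw [map_prod_pr]
  have h3 : ([0, 1, 9, 10].map e).prod = c := by
    simp only [List.map_cons, List.map_nil, List.prod_cons, List.prod_nil, mul_one, e9, e10]
    simp only [c, a, b, mul_assoc]
  rw [h3, h1]
  exact map_one _

theorem ab : a * b = c * b * a := by
  unfold c
  group

/-- the conjugation actions -/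
theorem conj_of {x z w : Co0} (hx : x * z = w * x) : x * z * x⁻¹ = w := by
  rw [hx, mul_inv_cancel_right]

/-! ### Fixed vectors -/

theorem nrm_eq {l : List ℤ} (hl : l.length = 24) : sqNorm (vec l) = nrm l := by
  have key : ∀ (l : List ℤ), (l.map fun x => x * x).sum = ∑ i ∈ Finset.range l.length, l.getD i 0 ^ 2 := by
    intro l
    induction l with
    | nil => rfl
    | cons x l ih =>
      rw [List.map_cons, List.sum_cons, List.length_cons, Finset.sum_range_succ', ih, add_comm]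
      congr 1
      change x * x = x ^ 2
      ring
  unfold sqNorm nrm
  rw [GolayBase.sum_pt, key, hl]
  refine Finset.sum_congr rfl fun i hi => ?_
  rw [vec_apply, GolayBase.idx_pt (Finset.mem_range.mp hi)]

/-- a vector fixed by a word -/
theorem exists_fixed {w : List ℕ} {l : List ℤ} {n : ℤ} (hf : fixB w l n = true) :
    ∃ hv : vec l ∈ leechLattice, sqNorm (vec l) = n ∧ (w.map e).prod • (⟨vec l, hv⟩ : leechLattice) = ⟨vec l, hv⟩ := by
  unfold fixB at hf
  rw [Bool.and_eq_true, Bool.and_eq_true, Bool.and_eq_true] at hf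
  obtain ⟨⟨⟨h1, h2⟩, h3⟩, h4⟩ := hf
  have hl := Nat.eq_of_beq_eq_true h4
  refine ⟨vec_mem_of_leechB h2, ?_, ?_⟩
  · rw [nrm_eq hl]
    exact of_decide_eq_true h3
  · apply Subtype.ext
    have h5 := (fold_spec rep w (l := l) (v := ⟨vec l, vec_mem_of_leechB h2⟩) hl.le rfl).2
    rw [eqL_eq h1] at h5
    exact h5

theorem ne_zero_of_norm {v : leechLattice} {n : ℤ} (hn : sqNorm (v : GolayPt → ℤ) = n) (h0 : n ≠ 0) : v ≠ 0 := by
  rintro rfl
  apply h0
  rw [← hn]
  exact CpAutBig.FixCount.sqNorm_zero'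

/-! ### `a` is a permutation -/

theorem isPerm_a : Cfsg.Agent.MonsterX.FrameStab.IsPerm a FivePerm.pi5 := by
  have h0 : a = Co0Mono.permCo0 ⟨FivePerm.pi5, FivePerm.pi5_mem⟩ := by
    apply eq_of_fix
    apply Subtype.ext
    have h1 := (rep 0).apply (v := beta) (l := betaL) (by decide) rfl
    have h2 : (((Co0Mono.permCo0 ⟨FivePerm.pi5, FivePerm.pi5_mem⟩).1 beta : leechLattice) : GolayPt → ℤ) =
        Co0Mono.permMap FivePerm.pi5 (vec betaL) := Co0Mono.permCo0_smul _ beta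
    change (((e 0).1 beta : leechLattice) : GolayPt → ℤ) = _
    rw [h1, h2]
    funext p
    obtain ⟨q, rfl⟩ := FivePerm.pi5.surjective p
    rw [Co0Mono.permMap_apply]
    have h3 : FivePerm.pi5.symm (FivePerm.pi5 q) = q := Equiv.symm_apply_apply _ _
    rw [h3, vec_apply, vec_apply, FivePerm.idx_pi5]
    have h4 : ∀ i < 24, (ap rA betaL).getD (FivePerm.F5.getD i 0) 0 = betaL.getD i 0 := by (rewrite [Cfsg.Agent.CoOneType.CoAp.ap_F]; decide +kernel)
    exact h4 _ (GolayBase.idx_lt q)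
  rw [h0]
  intro v p
  rw [Co0Mono.permCo0_smul, Co0Mono.permMap_apply]

end Cfsg.Agent.CpAutCoOneFive.Elem

private theorem dce_289adaa88887 : _root_.True := by
  try have : _root_.True := by simp only [_root_.Cfsg.Agent.CpAutCoOneFive.Elem.r.eq_1]
  try have : _root_.True := by simp only [_root_.Cfsg.Agent.CpAutCoOneFive.Elem.d.eq_1]
  try have : _root_.True := by simp only [_root_.Cfsg.Agent.CpAutCoOneFive.Elem.h.eq_1]
  try have : _root_.True := by simp only [_root_.Cfsg.Agent.CpAutCoOneFive.Elem.b.eq_1]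
  try have : _root_.True := by simp only [_root_.Cfsg.Agent.CpAutCoOneFive.Elem.s.eq_1]
  try have : _root_.True := by simp only [_root_.Cfsg.Agent.CpAutCoOneFive.Elem.c.eq_1]
  try have : _root_.True := by simp only [_root_.Cfsg.Agent.CpAutCoOneFive.Elem.a.eq_1]
  try have : _root_.True := by simp only [_root_.Cfsg.Agent.CpAutCoOneFive.Elem.t.eq_1]
  exact _root_.True.intro
end

-- part: CpAutCoOneFive/Fac
section
set_option linter.all false
open scoped Cfsg.Agent.FastGrp

/-!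
# Fixed vectors of `d` and `c` (helper6)

* `free_d` : `d` has no nonzero fixed vector;
* `finrank_c` : the rational vectors fixed by `c` form a space of dimension at most 4.
-/

set_option autoImplicit false

namespace Cfsg.Agent.CpAutCoOneFive.Fac

open Cfsg Cfsg.Agent.SporadicStructure.Co0Base
open Cfsg.Agent.SporadicStructure.Co0Matrix Cfsg.Agent.CoOneType.CoEval
open Cfsg.Agent.SporadicA Cfsg.Agent.SigZeroCo2.Lin
open Cfsg.Agent.CpAutCoOneFive.Mat Cfsg.Agent.CpAutCoOneFive.Elem Module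

theorem length_fold (w : List ℕ) {l : List ℤ} (hl : l.length = 24) : (fold M w l).length = 24 := by
  induction w with
  | nil => exact hl
  | cons i w ih => exact length_ap (rep i).len _

theorem length_addL {s t : List ℤ} (hs : s.length = 24) (ht : t.length = 24) : (addL s t).length = 24 := by
  unfold addL
  rw [List.length_zipWith, hs, ht, min_self]

theorem getD_addL : ∀ (s t : List ℤ) (i : ℕ), s.length = t.length →
    (addL s t).getD i 0 = s.getD i 0 + t.getD i 0
  | [], [], i, _ => by simp [addL]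
  | x :: s, y :: t, 0, _ => rfl
  | x :: s, y :: t, i + 1, h => getD_addL s t i (by simpa using h)
  | [], y :: t, i, h => by simp at h
  | x :: s, [], i, h => by simp at h

theorem vec_addL {s t : List ℤ} (hs : s.length = 24) (ht : t.length = 24) : vec (addL s t) = vec s + vec t := by
  funext p
  rw [Pi.add_apply, vec_apply, vec_apply, vec_apply, getD_addL s t _ (hs.trans ht.symm)]

/-- the sum of the first five powers -/
noncomputable def sm (x : Co0) (v : leechLattice) : leechLattice :=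
  v + (x • v + (x • x • v + (x • x • x • v + x • x • x • x • v)))

theorem sumW_spec (w : List ℕ) {l : List ℤ} (hl : l.length = 24) {v : leechLattice} (hv : (v : GolayPt → ℤ) = vec l) :
    ((sm (w.map e).prod v : leechLattice) : GolayPt → ℤ) = vec (sumW w l) ∧ (sumW w l).length = 24 := by
  obtain ⟨x, hx⟩ : ∃ x, x = (w.map e).prod := ⟨_, rfl⟩
  have key : ∀ {l : List ℤ} (_ : l.length = 24) {v : leechLattice} (_ : (v : GolayPt → ℤ) = vec l),
      (fold M w l).length = 24 ∧ ((x • v : leechLattice) : GolayPt → ℤ) = vec (fold M w l) := by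
    intro l hl v hv
    refine ⟨length_fold w hl, ?_⟩
    rw [hx]
    exact (fold_spec rep w hl.le hv).2
  obtain ⟨l1, h1⟩ := key hl hv
  obtain ⟨l2, h2⟩ := key l1 h1
  obtain ⟨l3, h3⟩ := key l2 h2
  obtain ⟨l4, h4⟩ := key l3 h3
  have k1 := length_addL l3 l4
  have k2 := length_addL l2 k1
  have k3 := length_addL l1 k2
  rw [← hx]
  refine ⟨?_, length_addL hl k3⟩
  unfold sumW
  rw [vec_addL hl k3, vec_addL l1 k2, vec_addL l2 k1, vec_addL l3 l4, ← hv, ← h1, ← h2, ← h3, ← h4]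
  rfl

theorem vec_eL {i : ℕ} (hi : i < 24) : ((e8 (GolayBase.pt i) : leechLattice) : GolayPt → ℤ) = vec (eL i) := by
  funext p
  rw [e8_coe, vec_apply]
  have h1 : (eL i).getD (GolayBase.idx p) 0 = if Nat.beq i (GolayBase.idx p) then 8 else 0 := getD_range_map _ p
  rw [h1, Pi.single_apply]
  by_cases h : p = GolayBase.pt i
  · subst h
    rw [GolayBase.idx_pt hi, if_pos rfl, if_pos (Nat.beq_refl i)]
  · rw [if_neg h, if_neg]
    intro h2
    apply h
    rw [Nat.eq_of_beq_eq_true h2, GolayBase.pt_idx]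

theorem length_eL (i : ℕ) : (eL i).length = 24 := by
  unfold eL
  rw [List.length_map, List.length_range]

/-- the matrix of the sum of the powers -/
theorem eight_sm (x : Co0) (v : leechLattice) (j : GolayPt) :
    8 * ((sm x v : leechLattice) : GolayPt → ℤ) j =
      ∑ i, (v : GolayPt → ℤ) i * ((sm x (e8 i) : leechLattice) : GolayPt → ℤ) j := by
  have h0 := eight_mul_co0 1 v j
  have h1 := eight_mul_co0 x v j
  have h2 := eight_mul_co0 (x * x) v j
  have h3 := eight_mul_co0 (x * x * x) v j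
  have h4 := eight_mul_co0 (x * x * x * x) v j
  simp only [mul_smul, one_smul] at h0 h1 h2 h3 h4
  have e1 : ∀ u : leechLattice, ((sm x u : leechLattice) : GolayPt → ℤ) j =
      (u : GolayPt → ℤ) j + (((x • u : leechLattice) : GolayPt → ℤ) j + (((x • x • u : leechLattice) : GolayPt → ℤ) j +
        (((x • x • x • u : leechLattice) : GolayPt → ℤ) j + ((x • x • x • x • u : leechLattice) : GolayPt → ℤ) j))) :=
    fun u => rfl
  rw [e1, mul_add, mul_add, mul_add, mul_add, h0, h1, h2, h3, h4]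
  rw [← Finset.sum_add_distrib, ← Finset.sum_add_distrib, ← Finset.sum_add_distrib, ← Finset.sum_add_distrib]
  refine Finset.sum_congr rfl fun i _ => ?_
  rw [e1]
  ring

theorem zero_vec : vec (List.replicate 24 0) = 0 := by
  funext p
  rw [vec_apply, Pi.zero_apply]
  have : ∀ i < 24, (List.replicate 24 (0 : ℤ)).getD i 0 = 0 := by decide
  exact this _ (GolayBase.idx_lt p)

/-- **`d` is fixed point free.** -/
theorem free_d : ∀ v : leechLattice, d • v = v → v = 0 := by
  have h1 : ∀ p : GolayPt, sm d (e8 p) = 0 := by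
    intro p
    apply Subtype.ext
    have h2 := List.all_eq_true.1 Mat.free_d (GolayBase.idx p) (List.mem_range.2 (GolayBase.idx_lt p))
    have h3 := (sumW_spec [2] (length_eL _) (v := e8 p)
      (by rw [← vec_eL (GolayBase.idx_lt p), GolayBase.pt_idx])).1
    rw [eqL_eq h2, zero_vec] at h3
    have h4 : ([2].map e).prod = d := mul_one _
    rw [h4] at h3
    exact h3
  intro v hv
  have h2 : sm d v = 0 := by
    apply Subtype.ext
    funext j
    have h3 := eight_sm d v j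
    have h4 : ∀ i, (v : GolayPt → ℤ) i * ((sm d (e8 i) : leechLattice) : GolayPt → ℤ) j = 0 := by
      intro i
      rw [h1]
      exact mul_zero _
    rw [Finset.sum_congr rfl fun i _ => h4 i, Finset.sum_const_zero] at h3
    change ((sm d v : leechLattice) : GolayPt → ℤ) j = 0
    omega
  unfold sm at h2
  rw [hv, hv, hv, hv] at h2
  apply Subtype.ext
  funext j
  have h3 := congrArg (fun u : leechLattice => (u : GolayPt → ℤ) j) h2
  have h4 : (v : GolayPt → ℤ) j + ((v : GolayPt → ℤ) j + ((v : GolayPt → ℤ) j + ((v : GolayPt → ℤ) j +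
    (v : GolayPt → ℤ) j))) = 0 := h3
  change (v : GolayPt → ℤ) j = 0
  omega

theorem length_map_mul {l : List ℤ} (hl : l.length = 24) (x : ℤ) : (l.map fun a => x * a).length = 24 := by
  rw [List.length_map, hl]

theorem vec_map_mul (l : List ℤ) (x : ℤ) : vec (l.map fun a => x * a) = x • vec l := by
  funext p
  rw [Pi.smul_apply, vec_apply, vec_apply, smul_eq_mul]
  have key : ∀ (l : List ℤ) (i : ℕ), (l.map fun a => x * a).getD i 0 = x * l.getD i 0 := by
    intro l
    induction l with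
    | nil => intro i; simp
    | cons a l ih =>
      intro i
      cases i with
      | zero => rfl
      | succ i => exact ih i
  exact key l _

theorem lcomb_spec : ∀ (s : List ℤ) (t : List (List ℤ)), (∀ l ∈ t, l.length = 24) →
    (lcomb s t).length = 24 ∧ ∀ S : Submodule ℚ Sp, (∀ l ∈ t, (fun p => ((vec l p : ℤ) : ℚ)) ∈ S) →
      (fun p => ((vec (lcomb s t) p : ℤ) : ℚ)) ∈ S
  | [], t, _ => by
    have h1 : lcomb [] t = List.replicate 24 0 := by
      unfold lcomb
      rfl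
    rw [h1]
    refine ⟨by simp, fun S _ => ?_⟩
    have h2 : (fun p => ((vec (List.replicate 24 0) p : ℤ) : ℚ)) = 0 := by
      rw [zero_vec]
      funext p
      simp
    rw [h2]
    exact S.zero_mem
  | x :: s, [], _ => by
    have h1 : lcomb (x :: s) [] = List.replicate 24 0 := by
      unfold lcomb
      rfl
    rw [h1]
    refine ⟨by simp, fun S _ => ?_⟩
    have h2 : (fun p => ((vec (List.replicate 24 0) p : ℤ) : ℚ)) = 0 := by
      rw [zero_vec]
      funext p
      simp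
    rw [h2]
    exact S.zero_mem
  | x :: s, l :: t, h => by
    obtain ⟨h1, h2⟩ := lcomb_spec s t fun l' hl' => h l' (List.mem_cons_of_mem _ hl')
    have h3 := h l List.mem_cons_self
    have h4 : lcomb (x :: s) (l :: t) = addL (l.map fun a => x * a) (lcomb s t) := by
      conv_lhs => unfold lcomb
    rw [h4]
    refine ⟨length_addL (length_map_mul h3 x) h1, fun S hS => ?_⟩
    have h5 : (fun p => ((vec (addL (l.map fun a => x * a) (lcomb s t)) p : ℤ) : ℚ)) =
        (x : ℚ) • (fun p => ((vec l p : ℤ) : ℚ)) + (fun p => ((vec (lcomb s t) p : ℤ) : ℚ)) := by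
      rw [vec_addL (length_map_mul h3 x) h1, vec_map_mul]
      funext p
      simp
    rw [h5]
    exact S.add_mem (S.smul_mem _ (hS l List.mem_cons_self))
      (h2 S fun l' hl' => hS l' (List.mem_cons_of_mem _ hl'))

/-- **The space of the vectors fixed by `c`.** -/
theorem finrank_c : finrank ℚ (LinearMap.ker (SigZeroCo2.Lin.rep c - 1)) ≤ 4 := by
  classical
  obtain ⟨R, hR⟩ : ∃ R : Module.End ℚ Sp, R = SigZeroCo2.Lin.rep c := ⟨_, rfl⟩
  let U : Fin 4 → Sp := fun k p => ((vec (bs.getD k []) p : ℤ) : ℚ)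
  let S : Submodule ℚ Sp := Submodule.span ℚ (Set.range U)
  have hlen : ∀ l ∈ bs, l.length = 24 := by
    intro l hl
    have h1 := List.all_eq_true.1 bs_ok l hl
    rw [Bool.and_eq_true] at h1
    exact Nat.eq_of_beq_eq_true h1.2
  have hS : ∀ l ∈ bs, (fun p => ((vec l p : ℤ) : ℚ)) ∈ S := by
    intro l hl
    obtain ⟨k, hk, rfl⟩ := List.getElem_of_mem hl
    have hk4 : k < 4 := by rwa [bs_length] at hk
    apply Submodule.subset_span
    refine ⟨⟨k, hk4⟩, ?_⟩
    funext p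
    change ((vec (bs.getD k []) p : ℤ) : ℚ) = _
    rw [List.getD_eq_getElem _ _ hk]
  have h1 : ∀ p : GolayPt, toV (sm c (e8 p)) ∈ S := by
    intro p
    have h2 := List.all_eq_true.1 rank_c (GolayBase.idx p) (List.mem_range.2 (GolayBase.idx_lt p))
    have h3 := (sumW_spec [0, 1, 9, 10] (length_eL _) (v := e8 p)
      (by rw [← vec_eL (GolayBase.idx_lt p), GolayBase.pt_idx])).1
    rw [eqL_eq h2] at h3
    have h4 : ([0, 1, 9, 10].map e).prod = c := by
      simp only [List.map_cons, List.map_nil, List.prod_cons, List.prod_nil, mul_one, e9, e10]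
      simp only [c, a, b, mul_assoc]
    rw [h4] at h3
    have h5 : toV (sm c (e8 p)) = fun q => ((vec (lcomb (co.getD (GolayBase.idx p) []) bs) q : ℤ) : ℚ) := by
      funext q
      rw [toV_apply, h3]
    rw [h5]
    exact (lcomb_spec _ _ hlen).2 S hS
  -- the sum of the powers
  let F : Module.End ℚ Sp := 1 + (R + (R * R + (R * R * R + R * R * R * R)))
  have hF : ∀ v : leechLattice, F (toV v) = toV (sm c v) := by
    intro v
    have h2 : F (toV v) = toV v + (R (toV v) + (R (R (toV v)) + (R (R (R (toV v))) + R (R (R (R (toV v))))))) := rfl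
    rw [h2, hR]
    unfold sm
    rw [toV_add, toV_add, toV_add, toV_add, rep_toV, rep_toV, rep_toV, rep_toV]
  have hFS : ∀ v : Sp, F v ∈ S := by
    intro v
    have h2 : v = ∑ i, (v i / 8) • toV (e8 i) := by
      funext j
      rw [Finset.sum_apply]
      simp only [toV_e8, Pi.smul_apply, Pi.single_apply]
      rw [Finset.sum_eq_single j]
      · simp
      · intro i _ hij
        rw [if_neg (Ne.symm hij)]
        simp
      · intro h
        exact absurd (Finset.mem_univ j) h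
    rw [h2, map_sum]
    refine Submodule.sum_mem _ fun i _ => ?_
    rw [map_smul, hF]
    exact S.smul_mem _ (h1 i)
  have hle : LinearMap.ker (SigZeroCo2.Lin.rep c - 1) ≤ S := by
    intro v hv
    rw [← hR, LinearMap.mem_ker] at hv
    have hv' : R v = v := sub_eq_zero.1 hv
    have h2 : F v = (5 : ℚ) • v := by
      have h3 : F v = v + (R v + (R (R v) + (R (R (R v)) + R (R (R (R v)))))) := rfl
      rw [h3, hv', hv', hv', hv']
      have : (5 : ℚ) = 1 + (1 + (1 + (1 + 1))) := by norm_num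
      rw [this, add_smul, add_smul, add_smul, add_smul, one_smul]
    have h3 : v = (5 : ℚ)⁻¹ • F v := by
      rw [h2, smul_smul]
      norm_num
    rw [h3]
    exact S.smul_mem _ (hFS v)
  refine (Submodule.finrank_mono hle).trans ?_
  have h2 := finrank_range_le_card (R := ℚ) (b := U)
  rw [Fintype.card_fin] at h2
  exact h2

end Cfsg.Agent.CpAutCoOneFive.Fac

private theorem dce_78f08503d433 : _root_.True := by
  try have : _root_.True := by simp only [_root_.Cfsg.Agent.CpAutCoOneFive.Mat.addL.eq_1]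
  try have : _root_.True := by simp only [_root_.Cfsg.Agent.CpAutCoOneFive.Mat.lcomb.eq_def]
  try have : _root_.True := by simp only [_root_.Cfsg.Agent.CpAutCoOneFive.Mat.lcomb._sparseCasesOn_1.else_eq]
  exact _root_.True.intro
end

-- part: CpAutCoOneFive/Nf
section
set_option linter.all false
open scoped Cfsg.Agent.FastGrp

/-!
# Normal forms in a group of order 625 (helper6)

`a c d` commute, `a^5 = b^5 = c^5 = d^5 = 1`, `a b = c b a`, `b c = c b`, `b d = a^4 c^2 d b`:
the elements `E a c d i k l = a^i c^k d^l`, `i k l : ZMod 5`, and `N i k l j = a^i c^k d^l b^j`.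
-/

set_option autoImplicit false

namespace Cfsg.Agent.CpAutCoOneFive.Nf

open Subgroup

variable {G : Type*} [Group G]

/-- powers with exponent in `ZMod 5` -/
def pw (x : G) (i : ZMod 5) : G := x ^ i.val

theorem pw_nat {x : G} (hx : x ^ 5 = 1) (n : ℕ) : x ^ n = pw x (n : ZMod 5) := by
  unfold pw
  rw [ZMod.val_natCast, pow_eq_pow_mod n hx]

theorem pw_add {x : G} (hx : x ^ 5 = 1) (i j : ZMod 5) : pw x (i + j) = pw x i * pw x j := by
  unfold pw
  rw [ZMod.val_add, ← pow_eq_pow_mod _ hx, pow_add]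

theorem pw_zero (x : G) : pw x 0 = 1 := by
  unfold pw
  rw [ZMod.val_zero, pow_zero]

theorem pw_one (x : G) : pw x 1 = x := by
  unfold pw
  exact pow_one x

theorem pw_mul {x : G} (hx : x ^ 5 = 1) (i j : ZMod 5) : pw x (i * j) = pw (pw x i) j := by
  unfold pw
  rw [ZMod.val_mul, ← pow_eq_pow_mod _ hx, pow_mul]

theorem pw_comm {x y : G} (h : x * y = y * x) (i j : ZMod 5) : pw x i * pw y j = pw y j * pw x i :=
  ((show Commute x y from h).pow_pow i.val j.val).eq

section three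

/-- the hypotheses on `a c d` -/
structure Tri (a c d : G) : Prop where
  ha : a ^ 5 = 1
  hc : c ^ 5 = 1
  hd : d ^ 5 = 1
  ac : a * c = c * a
  da : d * a = a * d
  dc : d * c = c * d

variable {a c d : G}

/-- `a^i c^k d^l` -/
def E (a c d : G) (i k l : ZMod 5) : G := pw a i * pw c k * pw d l

theorem E_mul (h : Tri a c d) (i k l i' k' l' : ZMod 5) :
    E a c d i k l * E a c d i' k' l' = E a c d (i + i') (k + k') (l + l') := by
  unfold E
  rw [pw_add h.ha, pw_add h.hc, pw_add h.hd]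
  have h1 := pw_comm h.ac i' k
  have h2 := pw_comm h.da l i'
  have h3 := pw_comm h.dc l k'
  calc pw a i * pw c k * pw d l * (pw a i' * pw c k' * pw d l')
      = pw a i * pw c k * (pw d l * pw a i') * pw c k' * pw d l' := by simp only [mul_assoc]
    _ = pw a i * (pw c k * pw a i') * (pw d l * pw c k') * pw d l' := by rw [h2]; simp only [mul_assoc]
    _ = pw a i * pw a i' * (pw c k * pw c k') * (pw d l * pw d l') := by rw [h3, ← h1]; simp only [mul_assoc]

theorem E_zero : E a c d 0 0 0 = 1 := by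
  unfold E
  rw [pw_zero, pw_zero, pw_zero, mul_one, mul_one]

theorem E_inv (h : Tri a c d) (i k l : ZMod 5) : (E a c d i k l)⁻¹ = E a c d (-i) (-k) (-l) := by
  rw [inv_eq_iff_mul_eq_one, E_mul h, add_neg_cancel, add_neg_cancel, add_neg_cancel, E_zero]

theorem E_pow (h : Tri a c d) (i k l : ZMod 5) (n : ℕ) :
    E a c d i k l ^ n = E a c d (n * i) (n * k) (n * l) := by
  induction n with
  | zero => simp [E_zero]
  | succ n ih =>
    rw [pow_succ, ih, E_mul h]
    push_cast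
    congr 1 <;> ring

theorem E_pow5 (h : Tri a c d) (i k l : ZMod 5) : E a c d i k l ^ 5 = 1 := by
  rw [E_pow h]
  have : ((5 : ℕ) : ZMod 5) = 0 := by decide
  rw [this, zero_mul, zero_mul, zero_mul, E_zero]

theorem E_a (a c d : G) : E a c d 1 0 0 = a := by
  unfold E
  rw [pw_one, pw_zero, pw_zero, mul_one, mul_one]

theorem E_c (a c d : G) : E a c d 0 1 0 = c := by
  unfold E
  rw [pw_one, pw_zero, pw_zero, one_mul, mul_one]

theorem E_d (a c d : G) : E a c d 0 0 1 = d := by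
  unfold E
  rw [pw_one, pw_zero, pw_zero, one_mul, one_mul]

theorem E_acd (h : Tri a c d) (i k l : ℕ) : a ^ i * c ^ k * d ^ l = E a c d i k l := by
  unfold E
  rw [← pw_nat h.ha, ← pw_nat h.hc, ← pw_nat h.hd]

/-- the group `⟨a, c, d⟩` -/
def T3 (h : Tri a c d) : Subgroup G where
  carrier := {x | ∃ i k l, x = E a c d i k l}
  mul_mem' := by
    rintro _ _ ⟨i, k, l, rfl⟩ ⟨i', k', l', rfl⟩
    exact ⟨_, _, _, E_mul h i k l i' k' l'⟩
  one_mem' := ⟨0, 0, 0, E_zero.symm⟩
  inv_mem' := by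
    rintro _ ⟨i, k, l, rfl⟩
    exact ⟨_, _, _, E_inv h i k l⟩

theorem E_mem (h : Tri a c d) (i k l : ZMod 5) : E a c d i k l ∈ T3 h := ⟨i, k, l, rfl⟩

theorem T3_comm (h : Tri a c d) : ∀ x ∈ T3 h, ∀ y ∈ T3 h, x * y = y * x := by
  rintro _ ⟨i, k, l, rfl⟩ _ ⟨i', k', l', rfl⟩
  rw [E_mul h, E_mul h, add_comm i, add_comm k, add_comm l]

theorem T3_isPGroup (h : Tri a c d) : IsPGroup 5 ↥(T3 h) := by
  rintro ⟨_, i, k, l, rfl⟩
  exact ⟨1, Subtype.ext (by
    change (E a c d i k l) ^ 5 ^ 1 = 1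
    rw [pow_one, E_pow5 h])⟩

/-- independence -/
def Indep (a c d : G) : Prop := ∀ i k l : ZMod 5, E a c d i k l = 1 → i = 0 ∧ k = 0 ∧ l = 0

/-- conjugation acts by a matrix -/
theorem conj_E (h : Tri a c d) {w : G} {v1 v2 v3 : ZMod 5 × ZMod 5 × ZMod 5}
    (h1 : w * a * w⁻¹ = E a c d v1.1 v1.2.1 v1.2.2) (h2 : w * c * w⁻¹ = E a c d v2.1 v2.2.1 v2.2.2)
    (h3 : w * d * w⁻¹ = E a c d v3.1 v3.2.1 v3.2.2) (i k l : ZMod 5) :
    w * E a c d i k l * w⁻¹ = E a c d (i * v1.1 + k * v2.1 + l * v3.1) (i * v1.2.1 + k * v2.2.1 + l * v3.2.1)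
      (i * v1.2.2 + k * v2.2.2 + l * v3.2.2) := by
  have h4 : ∀ x : G, ∀ n : ZMod 5, w * pw x n * w⁻¹ = pw (w * x * w⁻¹) n := by
    intro x n
    unfold pw
    exact (conj_pow).symm
  have h5 : w * E a c d i k l * w⁻¹ = (w * pw a i * w⁻¹) * (w * pw c k * w⁻¹) * (w * pw d l * w⁻¹) := by
    unfold E
    group
  have h6 : ∀ (v : ZMod 5 × ZMod 5 × ZMod 5) (n : ZMod 5), pw (E a c d v.1 v.2.1 v.2.2) n =
      E a c d (n * v.1) (n * v.2.1) (n * v.2.2) := by
    intro v n
    unfold pw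
    rw [E_pow h, ZMod.natCast_val, ZMod.cast_id', id]
  rw [h5, h4, h4, h4, h1, h2, h3, h6, h6, h6, E_mul h, E_mul h]

end three

section four

/-- the hypotheses on `a b c d` -/
structure Quad (a b c d : G) : Prop extends Tri a c d where
  hb : b ^ 5 = 1
  ab : a * b = c * b * a
  bc : b * c = c * b
  bd : b * d = a ^ 4 * c ^ 2 * d * b

variable {a b c d : G}

theorem conj_b (h : Quad a b c d) (i k l : ZMod 5) :
    b * E a c d i k l * b⁻¹ = E a c d (i + 4 * l) (k - i + 2 * l) l := by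
  have h1 : b * a * b⁻¹ = E a c d 1 4 0 := by
    have h2 : b * a = c⁻¹ * (a * b) := by rw [h.ab]; group
    have h3 : c⁻¹ = E a c d 0 4 0 := by
      have : c⁻¹ = (E a c d 0 1 0)⁻¹ := by rw [E_c]
      rw [this, E_inv h.toTri]
      congr 1
    rw [h2, h3]
    have h4 : E a c d 0 4 0 * (a * b) * b⁻¹ = E a c d 0 4 0 * E a c d 1 0 0 := by rw [E_a]; group
    rw [h4, E_mul h.toTri]
    congr 1
  have h2 : b * c * b⁻¹ = E a c d 0 1 0 := by rw [h.bc, mul_inv_cancel_right, E_c]
  have h3 : b * d * b⁻¹ = E a c d 4 2 1 := by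
    rw [h.bd, mul_inv_cancel_right]
    have := E_acd h.toTri 4 2 1
    rw [pow_one] at this
    rw [this]
    rfl
  rw [conj_E h.toTri (v1 := (1, 4, 0)) (v2 := (0, 1, 0)) (v3 := (4, 2, 1)) h1 h2 h3]
  have h5 : (4 : ZMod 5) = -1 := by decide
  congr 1
  · simp only [h5]; ring
  · simp only [h5]; ring
  · ring

/-- `a^i c^k d^l b^j` -/
def N (a b c d : G) (i k l j : ZMod 5) : G := E a c d i k l * pw b j

/-- conjugation by `b` -/
theorem moveB (h : Quad a b c d) (i k l j : ZMod 5) :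
    b * N a b c d i k l j * b⁻¹ = N a b c d (i + 4 * l) (k - i + 2 * l) l j := by
  unfold N
  rw [← conj_b h]
  have h1 : b * pw b j = pw b j * b := by
    have := pw_comm (rfl : b * b = b * b) 1 j
    rwa [pw_one] at this
  calc b * (E a c d i k l * pw b j) * b⁻¹ = b * E a c d i k l * b⁻¹ * (b * pw b j) * b⁻¹ := by group
    _ = b * E a c d i k l * b⁻¹ * pw b j := by rw [h1]; group

theorem a_pwb (h : Quad a b c d) (j : ZMod 5) : a * pw b j * a⁻¹ = E a c d 0 j 0 * pw b j := by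
  unfold pw
  rw [← conj_pow]
  have h1 : a * b * a⁻¹ = c * b := by rw [h.ab, mul_inv_cancel_right]
  have h2 : Commute c b := h.bc.symm
  rw [h1, h2.mul_pow]
  congr 1
  unfold E
  rw [pw_zero, pw_zero, one_mul, mul_one]
  rfl

/-- conjugation by `a` -/
theorem moveA (h : Quad a b c d) (i k l j : ZMod 5) :
    a * N a b c d i k l j * a⁻¹ = N a b c d i (k + j) l j := by
  unfold N
  have h1 : a * E a c d i k l = E a c d i k l * a := by
    have h2 := T3_comm h.toTri a ⟨1, 0, 0, (E_a a c d).symm⟩ _ (E_mem h.toTri i k l)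
    exact h2
  calc a * (E a c d i k l * pw b j) * a⁻¹ = a * E a c d i k l * a⁻¹ * (a * pw b j * a⁻¹) := by group
    _ = E a c d i k l * (E a c d 0 j 0 * pw b j) := by rw [h1, mul_inv_cancel_right, a_pwb h]
    _ = E a c d i (k + j) l * pw b j := by
      rw [← mul_assoc, E_mul h.toTri, add_zero, add_zero]

theorem conj_db (h : Quad a b c d) : d * b * d⁻¹ = E a c d 1 3 0 * b := by
  have h1 : b * d = E a c d 4 2 0 * (d * b) := by
    rw [h.bd]
    have h2 : a ^ 4 * c ^ 2 * d = E a c d 4 2 0 * d := by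
      have h3 := E_acd h.toTri 4 2 0
      rw [pow_zero, mul_one] at h3
      rw [h3]
      rfl
    rw [h2, mul_assoc]
  have h4 : d * b = E a c d 1 3 0 * (b * d) := by
    rw [h1, ← mul_assoc, E_mul h.toTri]
    have h5 : E a c d (1 + 4) (3 + 2) (0 + 0) = 1 := by
      have : (1 : ZMod 5) + 4 = 0 := by decide
      rw [this]
      have : (3 : ZMod 5) + 2 = 0 := by decide
      rw [this, add_zero, E_zero]
    rw [h5, one_mul]
  rw [h4, mul_assoc, mul_inv_cancel_right]

theorem d_pwb (h : Quad a b c d) (n : ℕ) : ∃ k, d * b ^ n * d⁻¹ = E a c d n k 0 * b ^ n := by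
  induction n with
  | zero => exact ⟨0, by rw [pow_zero, Nat.cast_zero, E_zero]; group⟩
  | succ n ih =>
    obtain ⟨k, hk⟩ := ih
    have h1 : d * b ^ (n + 1) * d⁻¹ = (d * b * d⁻¹) * (d * b ^ n * d⁻¹) := by
      rw [pow_succ']; group
    rw [h1, conj_db h, hk]
    have h2 : b * E a c d n k 0 = E a c d (n + 4 * 0) (k - n + 2 * 0) 0 * b := by
      rw [← conj_b h]; group
    refine ⟨3 + (k - n + 2 * 0), ?_⟩
    calc E a c d 1 3 0 * b * (E a c d n k 0 * b ^ n) = E a c d 1 3 0 * (b * E a c d n k 0) * b ^ n := by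
          simp only [mul_assoc]
      _ = E a c d 1 3 0 * E a c d (n + 4 * 0) (k - n + 2 * 0) 0 * (b * b ^ n) := by
          rw [h2]; simp only [mul_assoc]
      _ = _ := by
          rw [E_mul h.toTri, ← pow_succ']
          congr 2
          push_cast
          ring

/-- conjugation by `d` -/
theorem moveD (h : Quad a b c d) (i k l j : ZMod 5) :
    ∃ k', d * N a b c d i k l j * d⁻¹ = N a b c d (i + j) k' l j := by
  obtain ⟨k1, hk⟩ := d_pwb h j.val
  refine ⟨k + k1, ?_⟩
  unfold N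
  have h1 : d * E a c d i k l = E a c d i k l * d := by
    have h2 := T3_comm h.toTri d ⟨0, 0, 1, (E_d a c d).symm⟩ _ (E_mem h.toTri i k l)
    exact h2
  have h3 : pw b j = b ^ j.val := rfl
  calc d * (E a c d i k l * pw b j) * d⁻¹ = d * E a c d i k l * d⁻¹ * (d * pw b j * d⁻¹) := by group
    _ = E a c d i k l * (E a c d (j.val : ZMod 5) k1 0 * pw b j) := by
      rw [h1, mul_inv_cancel_right, h3, hk]
    _ = E a c d (i + j) (k + k1) l * pw b j := by
      rw [← mul_assoc, E_mul h.toTri, add_zero, ZMod.natCast_val, ZMod.cast_id', id]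

/-! ### Iterated moves -/

/-- conjugacy -/
def Cj (x y : G) : Prop := ∃ w : G, w * x * w⁻¹ = y

theorem Cj.refl (x : G) : Cj x x := ⟨1, by group⟩

theorem Cj.trans {x y z : G} (h1 : Cj x y) (h2 : Cj y z) : Cj x z := by
  obtain ⟨u, rfl⟩ := h1
  obtain ⟨v, rfl⟩ := h2
  exact ⟨v * u, by group⟩

theorem Cj.symm {x y : G} (h1 : Cj x y) : Cj y x := by
  obtain ⟨u, rfl⟩ := h1
  exact ⟨u⁻¹, by group⟩

theorem iterB (h : Quad a b c d) (i k l j : ZMod 5) (n : ℕ) :
    ∃ k', Cj (N a b c d i k l j) (N a b c d (i + n * (4 * l)) k' l j) := by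
  induction n with
  | zero => exact ⟨k, by rw [Nat.cast_zero, zero_mul, add_zero]; exact Cj.refl _⟩
  | succ n ih =>
    obtain ⟨k', hk⟩ := ih
    refine ⟨k' - (i + n * (4 * l)) + 2 * l, hk.trans ⟨b, ?_⟩⟩
    rw [moveB h]
    congr 1
    push_cast
    ring

theorem iterA (h : Quad a b c d) (i k l j : ZMod 5) (n : ℕ) :
    Cj (N a b c d i k l j) (N a b c d i (k + n * j) l j) := by
  induction n with
  | zero => rw [Nat.cast_zero, zero_mul, add_zero]; exact Cj.refl _
  | succ n ih =>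
    refine ih.trans ⟨a, ?_⟩
    rw [moveA h]
    congr 1
    push_cast
    ring

theorem iterD (h : Quad a b c d) (i k l j : ZMod 5) (n : ℕ) :
    ∃ k', Cj (N a b c d i k l j) (N a b c d (i + n * j) k' l j) := by
  induction n with
  | zero => exact ⟨k, by rw [Nat.cast_zero, zero_mul, add_zero]; exact Cj.refl _⟩
  | succ n ih =>
    obtain ⟨k', hk⟩ := ih
    obtain ⟨k2, hk2⟩ := moveD h (i + n * j) k' l j
    refine ⟨k2, hk.trans ⟨d, ?_⟩⟩
    rw [hk2]
    congr 1
    push_cast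
    ring

theorem exists_n (i l : ZMod 5) (hl : l ≠ 0) : ∃ n : ℕ, i + n * l = 0 := by
  have h : ∀ i l : ZMod 5, l ≠ 0 → ∃ n ∈ List.range 5, i + (n : ZMod 5) * l = 0 := by decide
  obtain ⟨n, -, hn⟩ := h i l hl
  exact ⟨n, hn⟩

/-- `l ≠ 0` -/
theorem red_l (h : Quad a b c d) {i k l j : ZMod 5} (hl : l ≠ 0) :
    (j = 0 ∧ ∃ k', Cj (N a b c d i k l j) (E a c d 0 k' l)) ∨
      (j ≠ 0 ∧ Cj (N a b c d i k l j) (N a b c d 0 0 l j)) := by
  have h4 : (4 : ZMod 5) * l ≠ 0 := by
    have : ∀ l : ZMod 5, l ≠ 0 → 4 * l ≠ 0 := by decide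
    exact this l hl
  obtain ⟨n, hn⟩ := exists_n i (4 * l) h4
  obtain ⟨k', hk⟩ := iterB h i k l j n
  rw [hn] at hk
  by_cases hj : j = 0
  · refine Or.inl ⟨hj, k', ?_⟩
    have h5 : N a b c d 0 k' l j = E a c d 0 k' l := by
      unfold N
      rw [hj, pw_zero, mul_one]
    rwa [h5] at hk
  · refine Or.inr ⟨hj, hk.trans ?_⟩
    obtain ⟨m, hm⟩ := exists_n k' j hj
    have h6 := iterA h 0 k' l j m
    rwa [hm] at h6

/-- `l = 0` -/
theorem red_zero (h : Quad a b c d) (i k j : ZMod 5) :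
    (∃ k', N a b c d i k 0 j = pw c k') ∨ Cj (N a b c d i k 0 j) (pw a i) ∨
      Cj (N a b c d i k 0 j) (pw b j) := by
  by_cases hj : j = 0
  · by_cases hi : i = 0
    · left
      refine ⟨k, ?_⟩
      unfold N E
      rw [hj, hi, pw_zero, pw_zero, pw_zero, one_mul, mul_one, mul_one]
    · right; left
      have key : ∀ n : ℕ, Cj (N a b c d i k 0 0) (N a b c d i (k + n * (-i)) 0 0) := by
        intro n
        induction n with
        | zero => rw [Nat.cast_zero, zero_mul, add_zero]; exact Cj.refl _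
        | succ n ih =>
          refine ih.trans ⟨b, ?_⟩
          rw [moveB h]
          congr 1
          · ring
          · push_cast; ring
      obtain ⟨n, hn⟩ := exists_n k (-i) (neg_ne_zero.2 hi)
      have h1 := key n
      rw [hn] at h1
      have h2 : N a b c d i 0 0 0 = pw a i := by
        unfold N E
        rw [pw_zero, pw_zero, pw_zero, mul_one, mul_one, mul_one]
      rw [hj]
      rwa [h2] at h1
  · right; right
    obtain ⟨n, hn⟩ := exists_n i j hj
    obtain ⟨k', hk⟩ := iterD h i k 0 j n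
    rw [hn] at hk
    obtain ⟨m, hm⟩ := exists_n k' j hj
    have h6 := iterA h 0 k' 0 j m
    rw [hm] at h6
    have h2 : N a b c d 0 0 0 j = pw b j := by
      unfold N
      rw [E_zero, one_mul]
    rw [h2] at h6
    exact hk.trans h6

/-! ### The group -/

theorem N_mul (h : Quad a b c d) (i k l j i' k' l' j' : ZMod 5) :
    ∃ i'' k'', N a b c d i k l j * N a b c d i' k' l' j' = N a b c d i'' k'' (l + l') (j + j') := by
  have key : ∀ n : ℕ, ∃ i'' k'', b ^ n * E a c d i' k' l' * (b ^ n)⁻¹ = E a c d i'' k'' l' := by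
    intro n
    induction n with
    | zero => exact ⟨i', k', by group⟩
    | succ n ih =>
      obtain ⟨i1, k1, h1⟩ := ih
      refine ⟨i1 + 4 * l', k1 - i1 + 2 * l', ?_⟩
      rw [← conj_b h, ← h1, pow_succ']
      group
  obtain ⟨i1, k1, h1⟩ := key j.val
  refine ⟨i + i1, k + k1, ?_⟩
  unfold N
  have h2 : pw b j = b ^ j.val := rfl
  rw [← E_mul h.toTri, ← h1, pw_add h.hb, h2]
  group

/-- the subgroup of the `a^i c^k b^j` -/
def P3 (h : Quad a b c d) : Subgroup G where
  carrier := {x | ∃ i k j, x = N a b c d i k 0 j}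
  mul_mem' := by
    rintro _ _ ⟨i, k, j, rfl⟩ ⟨i', k', j', rfl⟩
    obtain ⟨i'', k'', h1⟩ := N_mul h i k 0 j i' k' 0 j'
    rw [add_zero] at h1
    exact ⟨_, _, _, h1⟩
  one_mem' := ⟨0, 0, 0, by unfold N; rw [E_zero, pw_zero, mul_one]⟩
  inv_mem' := by
    rintro _ ⟨i, k, j, rfl⟩
    obtain ⟨i', k', h1⟩ := N_mul h 0 0 0 (-j) (-i) (-k) 0 0
    refine ⟨i', k', -j, ?_⟩
    rw [add_zero, add_zero] at h1
    rw [← h1]
    unfold N
    rw [E_zero, one_mul, pw_zero, mul_one, mul_inv_rev, E_inv h.toTri, neg_zero]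
    congr 1
    rw [inv_eq_iff_mul_eq_one, ← pw_add h.hb, add_neg_cancel, pw_zero]

/-- the subgroup of the `a^i c^k d^l b^j` -/
def P4 (h : Quad a b c d) : Subgroup G where
  carrier := {x | ∃ i k l j, x = N a b c d i k l j}
  mul_mem' := by
    rintro _ _ ⟨i, k, l, j, rfl⟩ ⟨i', k', l', j', rfl⟩
    obtain ⟨i'', k'', h1⟩ := N_mul h i k l j i' k' l' j'
    exact ⟨_, _, _, _, h1⟩
  one_mem' := ⟨0, 0, 0, 0, by unfold N; rw [E_zero, pw_zero, mul_one]⟩
  inv_mem' := by
    rintro _ ⟨i, k, l, j, rfl⟩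
    obtain ⟨i', k', h1⟩ := N_mul h 0 0 0 (-j) (-i) (-k) (-l) 0
    refine ⟨i', k', -l, -j, ?_⟩
    rw [add_zero, zero_add] at h1
    rw [← h1]
    unfold N
    rw [E_zero, one_mul, pw_zero, mul_one, mul_inv_rev, E_inv h.toTri]
    congr 1
    rw [inv_eq_iff_mul_eq_one, ← pw_add h.hb, add_neg_cancel, pw_zero]

end four

end Cfsg.Agent.CpAutCoOneFive.Nf
end
end
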